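/-
Centralisers of toral involutions through the Bruhat normal form.
-/
import Cfsg.Agent.Lib.Chev.Orders
import Cfsg.Agent.Lib.KnownB.ChevField

set_option autoImplicit false

namespace CfsgLib.Chev.OddInvol

open Cfsg.Lie Matrix CfsgLib.Chev

variable {D : ChevalleyDatum} {A : Aux}

/-- is the root `r` centralised by the toral involution of the mask `v` -/
noncomputable def pb (D : ChevalleyDatum) (A : Aux) (v r : ℕ) : Bool :=
  decide (((List.range D.rank).map fun i => if v.testBit i then A.cart i r else 0).sum % 2 = 0)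

/-- the stabiliser of the mask `v` in the Weyl group -/
noncomputable def stab (g : Good D A) (v : ℕ) : Finset (Weyl g) :=
  Finset.univ.filter fun w => ∀ r : Fin D.nroots, pb D A v (w.1 r).val = pb D A v r.val

/-- the centralised positive roots -/
noncomputable def posP (D : ChevalleyDatum) (A : Aux) (v : ℕ) : Finset ℕ :=
  D.posRoots.toFinset.filter fun r => pb D A v r = true

/-- the inversions among the centralised roots -/
noncomputable def invP (D : ChevalleyDatum) (A : Aux) (v : ℕ) (σ : ℕ → ℕ) : ℕ :=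
  ((posP D A v).filter fun r => ¬ D.IsPosRoot (σ r)).card

lemma invP_congr {v : ℕ} {σ τ : ℕ → ℕ} (h : SameOn D σ τ) : invP D A v σ = invP D A v τ := by
  unfold invP
  congr 1
  refine Finset.filter_congr fun r hr => ?_
  simp only [posP, Finset.mem_filter, List.mem_toFinset, posRoots_mem] at hr
  rw [h r hr.1.1]

/-- the root map of an element of the Weyl group -/
noncomputable def rmap {g : Good D A} (w : Weyl g) (r : ℕ) : ℕ :=
  if hr : r < D.nroots then (w.1 ⟨r, hr⟩).val else r

variable {F : Type*} [Field F]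

/-- the toral involution of a mask -/
def sgn (F : Type*) [Field F] (n v : ℕ) : Fin n → Fˣ := fun i => if v.testBit i.val then -1 else 1

lemma chi_sgn (v r : ℕ) :
    chi D A (sgn F D.rank v) r = if pb D A v r then 1 else -1 := by
  rw [chi]
  set f : Fin D.rank → ℤ := fun i => if v.testBit i.val then A.cart i.val r else 0
  have e : ∀ i, sgn F D.rank v i ^ A.cart i.val r = (-1 : Fˣ) ^ f i := fun i => by
    simp only [sgn, f]
    split_ifs <;> simp
  rw [Finset.prod_congr rfl fun i _ => e i]
  have hs : ∏ i : Fin D.rank, (-1 : Fˣ) ^ f i = (-1 : Fˣ) ^ ∑ i, f i := by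
    induction (Finset.univ : Finset (Fin D.rank)) using Finset.induction_on with
    | empty => simp
    | insert a S ha ih => rw [Finset.prod_insert ha, Finset.sum_insert ha, _root_.zpow_add, ih]
  rw [hs, pb, sum_map_range, Finset.sum_range]
  rcases Int.emod_two_eq_zero_or_one (∑ i, f i) with h | h
  · rw [if_pos (decide_eq_true h), Even.neg_one_zpow (Int.even_iff.2 h)]
  · rw [if_neg (show ¬ (decide ((∑ i, f i) % 2 = 0) = true) by simp [h])]
    exact Odd.neg_one_zpow (Int.odd_iff.2 h)

lemma pb_of_chi (h2 : (2 : F) ≠ 0) {v v' r s : ℕ}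
    (h : chi D A (sgn F D.rank v) r = chi D A (sgn F D.rank v') s) :
    pb D A v r = pb D A v' s := by
  rw [chi_sgn, chi_sgn] at h
  have hne : (1 : Fˣ) ≠ -1 := fun e => h2 (by
    have := congrArg Units.val e
    rw [Units.val_neg, Units.val_one] at this
    linear_combination this)
  revert h
  cases pb D A v r <;> cases pb D A v' s <;> simp [hne, Ne.symm hne]

lemma xG_inj (h : Std D A) {r : ℕ} (hr : r < D.nroots) {t u : F}
    (e : xG h.good r t = xG h.good r u) : t = u := by
  have h1 : xG h.good r (t - u) = 1 := by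
    rw [sub_eq_add_neg, ← xG_add, ← xG_inv, e, mul_inv_cancel]
  exact sub_eq_zero.1 (xG_eq_one h hr h1)

lemma tor_congr (g : Good D A) {c d : Fin D.rank → Fˣ}
    (h : ∀ r < D.nroots, chi D A c r = chi D A d r) : tor D A c = tor D A d := by
  apply Units.ext
  rw [tor_val, tor_val]
  exact dia_congr fun s hs => by rw [h s hs]

/-- the conjugate of a toral element by a monomial element -/
lemma chi_conj (h : Std D A) {n : GL D.Idx F} {σ : ℕ → ℕ} (hσ : Acts h.good n σ)
    {c d : Fin D.rank → Fˣ} (e : n * tor D A c * n⁻¹ = tor D A d) {r : ℕ} (hr : r < D.nroots) :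
    chi D A d (σ r) = chi D A c r := by
  obtain ⟨k, hk, hkc⟩ := hσ.conj r hr
  have h1 : n * (tor D A c * xG h.good r 1 * (tor D A c)⁻¹) * n⁻¹ =
      tor D A d * (n * xG h.good r 1 * n⁻¹) * (tor D A d)⁻¹ := by rw [← e]; group
  rw [tor_conj_xG h.good c hr, hkc, hkc, tor_conj_xG h.good d (hσ.map.1 r hr)] at h1
  have h2 := xG_inj h (hσ.map.1 r hr) h1
  refine Units.ext ?_
  rw [mul_one, mul_one, mul_comm] at h2
  exact (mul_right_cancel₀ hk h2).symm

lemma chi_surj (h : Std D A) {n : GL D.Idx F} {σ : ℕ → ℕ} (hσ : Acts h.good n σ)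
    {c d : Fin D.rank → Fˣ} (e : n * tor D A c * n⁻¹ = tor D A d)
    (hc : ∀ r < D.nroots, chi D A c (σ r) = chi D A c r) : tor D A d = tor D A c :=
  tor_congr h.good fun s hs => by
    obtain ⟨r, hr, rfl⟩ := hσ.surj hs
    rw [chi_conj h hσ e hr, hc r hr]

lemma conj_pw (g : Good D A) (c : Fin D.rank → Fˣ) : ∀ {L : List ℕ}, (∀ r ∈ L, r < D.nroots) →
    ∀ T : ℕ → F, tor D A c * pw g L T * (tor D A c)⁻¹ = pw g L fun r => (chi D A c r : F) * T r
  | [], _, T => by simp [pw]
  | x :: L, hL, T => by
    have := conj_pw g c (L := L) (fun r hr => hL r (List.mem_cons_of_mem _ hr)) T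
    simp only [pw, List.map_cons, List.prod_cons] at this ⊢
    rw [← this, ← tor_conj_xG g c (hL x List.mem_cons_self) (T x)]
    group

lemma tor_conj_UP (g : Good D A) (c : Fin D.rank → Fˣ) {P : ℕ → Prop}
    (hP : ∀ r, P r → r < D.nroots) {u : GL D.Idx F} (hu : u ∈ UP F g P) :
    tor D A c * u * (tor D A c)⁻¹ ∈ UP F g P :=
  conj_UP_le (acts_tor g c) hP (fun r t hr => xG_mem_UP g hr t) hu

/-- the fixed points of a toral element on a unipotent product -/
lemma card_fixed [Fintype F] (h : Std D A) {Q : ℕ → Prop} [DecidablePred Q]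
    (hQ : ∀ r, Q r → D.IsPosRoot r)
    (hcard : Nat.card (UP F h.good Q) = Fintype.card F ^ (D.posRoots.toFinset.filter Q).card)
    (c : Fin D.rank → Fˣ) {R : ℕ → Bool} (hR : ∀ r, chi D A c r = 1 ↔ R r = true) :
    Nat.card {u : GL D.Idx F // u ∈ UP F h.good Q ∧ tor D A c * u * (tor D A c)⁻¹ = u} =
      Fintype.card F ^
        ((D.posRoots.toFinset.filter Q).filter fun r => R r = true).card := by
  classical
  have g := h.good
  have : Finite (GL D.Idx F) := finite_GL
  set S := D.posRoots.toFinset.filter Q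
  have hlt : ∀ r ∈ D.posRoots, r < D.nroots := fun r hr => (posRoots_mem.1 hr).1
  let e : (S → F) → UP F g Q := fun T =>
    ⟨pw g D.posRoots (fun r => if hr : r ∈ S then T ⟨r, hr⟩ else 0), list_prod_mem fun y hy => by
      obtain ⟨r, -, rfl⟩ := List.mem_map.1 hy
      by_cases hr : r ∈ S
      · exact xG_mem_UP g (Finset.mem_filter.1 hr).2 _
      · simp only []; rw [dif_neg hr, xG_zero]; exact one_mem _⟩
  have he : Function.Bijective e := by
    refine (Nat.bijective_iff_injective_and_card e).2 ⟨fun T T' eq => ?_, ?_⟩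
    · funext ⟨r, hr⟩
      have := pw_inj h upList_posRoots (congrArg Subtype.val eq) r
        (List.mem_toFinset.1 (Finset.mem_filter.1 hr).1)
      simpa [hr] using this
    · rw [hcard, Nat.card_fun, Nat.card_eq_fintype_card (α := F), Nat.card_eq_finsetCard]
  have key : ∀ T : S → F, (tor D A c * (e T).1 * (tor D A c)⁻¹ = (e T).1) ↔
      ∀ x : S, chi D A c x.1 = 1 ∨ T x = 0 := by
    intro T
    simp only [e, conj_pw g c hlt]
    constructor
    · intro eq x
      have := pw_inj h upList_posRoots eq x.1 (List.mem_toFinset.1 (Finset.mem_filter.1 x.2).1)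
      simp only [x.2, dif_pos] at this
      by_cases h0 : T x = 0
      · exact Or.inr h0
      · exact Or.inl (Units.ext (mul_right_cancel₀ h0 (this.trans (one_mul _).symm)))
    · intro hT
      unfold pw
      refine congrArg List.prod (List.map_congr_left fun r _ => congrArg (xG g r) ?_)
      simp only []
      by_cases hr : r ∈ S
      · rw [dif_pos hr]
        rcases hT ⟨r, hr⟩ with h1 | h1
        · rw [h1]; simp
        · rw [h1]; simp
      · rw [dif_neg hr, mul_zero]
  clear_value e
  set S' := S.filter fun r => R r = true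
  let f : (S' → F) → {u : GL D.Idx F // u ∈ UP F g Q ∧ tor D A c * u * (tor D A c)⁻¹ = u} :=
    fun T =>
      ⟨(e fun x => if hx : x.1 ∈ S' then T ⟨x.1, hx⟩ else 0).1, (e _).2, (key _).2 fun x => by
        by_cases hx : x.1 ∈ S'
        · exact Or.inl ((hR _).2 (Finset.mem_filter.1 hx).2)
        · exact Or.inr (dif_neg hx)⟩
  have hf : Function.Bijective f := by
    constructor
    · intro T T' eq
      have := he.1 (Subtype.ext (congrArg (·.1) eq))
      funext ⟨r, hr⟩
      have := congrFun this ⟨r, (Finset.mem_filter.1 hr).1⟩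
      simpa [hr] using this
    · rintro ⟨u, hu, hfix⟩
      obtain ⟨T, hT⟩ := he.2 ⟨u, hu⟩
      have hu' : (e T).1 = u := congrArg Subtype.val hT
      have hk := (key T).1 (by rw [hu']; exact hfix)
      refine ⟨fun x => T ⟨x.1, (Finset.mem_filter.1 x.2).1⟩, Subtype.ext ?_⟩
      show (e _).1 = u
      rw [← hu']
      congr 2
      funext x
      by_cases hx : x.1 ∈ S'
      · rw [dif_pos hx]
      · rw [dif_neg hx]
        exact ((hk x).resolve_left fun h1 => hx (Finset.mem_filter.2 ⟨x.2, (hR _).1 h1⟩)).symm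
  rw [← Nat.card_congr (Equiv.ofBijective f hf), Nat.card_fun,
    Nat.card_eq_fintype_card (α := F), Nat.card_eq_finsetCard]

variable (h : Std D A)

/-- the order of the centraliser of a toral element -/
theorem card_cent_tor [Fintype F] (c : Fin D.rank → Fˣ) {R : ℕ → Bool}
    (hR : ∀ r, chi D A c r = 1 ↔ R r = true) {St : Finset (Weyl h.good)}
    (hSt : ∀ w, w ∈ St ↔ ∀ r : Fin D.nroots, chi D A c (w.1 r).val = chi D A c r.val) :
    Nat.card {y : GL D.Idx F // y ∈ D.group F ∧
        y * tor D A c = tor D A c * y} =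
      Fintype.card F ^ (D.posRoots.toFinset.filter fun r => R r = true).card *
        Nat.card (D.diagonalSubgroup F) *
        ∑ w ∈ St, Fintype.card F ^ ((D.posRoots.toFinset.filter fun r => R r = true).filter
          fun r => ¬ D.IsPosRoot (rmap w r)).card := by
  classical
  have g := h.good
  have : Finite (GL D.Idx F) := finite_GL
  set s := tor D A c
  let word : Weyl g → List ℕ := fun w => ((wS_gen g w).choose).map Fin.val
  have hword : ∀ w, ((wS_gen g w).choose.map (wS g)).prod = w := fun w => (wS_gen g w).choose_spec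
  have hl : ∀ w, Letters D (word w) := fun w => letters_map _
  have hact : ∀ w, Acts g (nW F g (word w)) (wf A (word w)) := fun w => nW_acts g (hl w)
  have hmem : ∀ w, nW F g (word w) ∈ D.monomialSubgroup F := fun w => nW_mem g (hl w)
  have hW : ∀ w, weylHom F g ⟨_, hmem w⟩ = w := fun w => by
    refine Eq.trans ?_ (hword w)
    exact Subtype.ext (permHom_nW g _)
  have hwf : ∀ (w : Weyl g) (r : Fin D.nroots), (w.1 r).val = wf A (word w) r := fun w r => by
    conv_lhs => rw [← hword w, wS_prod_apply]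
  have hrmap : ∀ w : Weyl g, SameOn D (rmap w) (wf A (word w)) := fun w r hr => by
    rw [rmap, dif_pos hr]; exact hwf w ⟨r, hr⟩
  have hfixn : ∀ w ∈ St, nW F g (word w) * s * (nW F g (word w))⁻¹ = s := by
    intro w hw
    obtain ⟨d, hd⟩ := monomial_conj_tor g (hmem w) c
    rw [hd]
    refine chi_surj h (hact w) hd fun r hr => ?_
    have := (hSt w).1 hw ⟨r, hr⟩
    rwa [hwf] at this
  let CU := {u : GL D.Idx F // u ∈ UP F g D.IsPosRoot ∧ s * u * s⁻¹ = u}
  let CW := fun w : Weyl g =>
    {u : GL D.Idx F // u ∈ UP F g (toNeg D (wf A (word w))) ∧ s * u * s⁻¹ = u}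
  have hUpos : UP F g D.IsPosRoot = D.posUnipotent F := by rw [posUnipotent_eq g]; rfl
  let f : (CU × ↥(D.diagonalSubgroup F)) × (Σ w : ↥St, CW w.1) →
      {y : GL D.Idx F // y ∈ D.group F ∧ y * s = s * y} := fun p =>
    ⟨p.1.1.1 * p.1.2.1 * nW F g (word p.2.1.1) * p.2.2.1,
      mul_mem (mul_mem (mul_mem (borel_le_group g (pos_le_borel (hUpos ▸ p.1.1.2.1)))
        (diagonalSubgroup_le_group g p.1.2.2)) (monomialSubgroup_le_group g (hmem _)))
        (borel_le_group g (pos_le_borel (UP_toNeg_le g _ p.2.2.2.1))), by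
      obtain ⟨⟨⟨x, hx, hxs⟩, ⟨t, ht⟩⟩, ⟨⟨w, hw⟩, ⟨u, hu, hus⟩⟩⟩ := p
      obtain ⟨d, rfl⟩ : t ∈ (tor D A).range := by rw [← diagonalSubgroup_eq g]; exact ht
      have e1 : s * tor D A d * s⁻¹ = tor D A d := by rw [tor_mul_comm, mul_inv_cancel_right]
      have e2 : s * nW F g (word w) * s⁻¹ = nW F g (word w) := by
        have := hfixn w hw
        rw [mul_inv_eq_iff_eq_mul] at this
        rw [← this, mul_inv_cancel_right]
      show x * tor D A d * nW F g (word w) * u * s = s * (x * tor D A d * nW F g (word w) * u)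
      conv_lhs => rw [← hxs, ← e1, ← e2, ← hus]
      group⟩
  have hf : Function.Bijective f := by
    constructor
    · rintro ⟨⟨⟨x, hx, hxs⟩, ⟨t, ht⟩⟩, ⟨⟨w, hw⟩, ⟨u, hu, hus⟩⟩⟩
        ⟨⟨⟨x', hx', hxs'⟩, ⟨t', ht'⟩⟩, ⟨⟨w', hw'⟩, ⟨u', hu', hus'⟩⟩⟩ e
      have e' : x * t * nW F g (word w) * u = x' * t' * nW F g (word w') * u' :=
        congrArg Subtype.val e
      have hb : x * t ∈ D.borelSubgroup F :=
        mul_mem (pos_le_borel (hUpos ▸ hx)) ((le_sup_right : _ ≤ D.borelSubgroup F) ht)
      have hb' : x' * t' ∈ D.borelSubgroup F :=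
        mul_mem (pos_le_borel (hUpos ▸ hx')) ((le_sup_right : _ ≤ D.borelSubgroup F) ht')
      have hH := bruhat_unique h hb (pos_le_borel (UP_toNeg_le g _ hu)) hb'
        (pos_le_borel (UP_toNeg_le g _ hu')) (hmem w) (hmem w') e'
      have hww : w = w' := by
        have : (⟨_, hmem w⟩ : ↥(D.monomialSubgroup F))⁻¹ * ⟨_, hmem w'⟩ ∈ (weylHom F g).ker := by
          rw [weylHom_ker h, Subgroup.mem_subgroupOf]; exact hH
        rw [MonoidHom.mem_ker, map_mul, map_inv, inv_mul_eq_one, hW, hW] at this
        exact this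
      subst hww
      obtain ⟨e1, rfl⟩ := normal_form_unique h (hact w) hb hb' hu hu' e'
      have e2 : x'⁻¹ * x = t' * t⁻¹ := by
        rw [eq_mul_inv_iff_mul_eq, mul_assoc, e1, inv_mul_cancel_left]
      have := Subgroup.mem_bot.1 ((posUnipotent_inf_diagonal h).le
        (Subgroup.mem_inf.2 ⟨mul_mem (inv_mem (hUpos ▸ hx')) (hUpos ▸ hx),
          e2 ▸ mul_mem ht' (inv_mem ht)⟩))
      rw [inv_mul_eq_one] at this
      subst this
      obtain rfl := mul_left_cancel e1
      rfl
    · rintro ⟨y, hy, hys⟩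
      obtain ⟨b, hb, n, hn, σ, hσ, u, hu, rfl⟩ := normal_form_exists h hy
      set w := weylHom F g ⟨n, hn⟩
      have hk : (⟨_, hmem w⟩ : ↥(D.monomialSubgroup F)) * (⟨n, hn⟩ : ↥(D.monomialSubgroup F))⁻¹ ∈
          (weylHom F g).ker := by
        rw [MonoidHom.mem_ker, map_mul, map_inv, hW, mul_inv_cancel]
      rw [weylHom_ker h, Subgroup.mem_subgroupOf] at hk
      push_cast at hk
      have hbd : b * (nW F g (word w) * n⁻¹)⁻¹ ∈ D.borelSubgroup F :=
        mul_mem hb (inv_mem ((le_sup_right : _ ≤ D.borelSubgroup F) hk))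
      obtain ⟨k, hkc⟩ : nW F g (word w) * n⁻¹ ∈ (tor D A).range := by
        rw [← diagonalSubgroup_eq g]; exact hk
      have hacts : Acts g n (wf A (word w)) := by
        have e : n = tor D A k⁻¹ * nW F g (word w) := by rw [map_inv, hkc]; group
        rw [e]
        exact (acts_tor g k⁻¹).mul (hact w)
      have hu' : u ∈ UP F g (toNeg D (wf A (word w))) := by
        rwa [UP_congr g (P := toNeg D σ) (Q := toNeg D (wf A (word w)))
          (fun r => and_congr_right fun hr => by rw [hσ.unique hacts hr.1])] at hu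
      obtain ⟨x, hx, d, hxd⟩ := (mem_borel_iff g).1 hbd
      set m := nW F g (word w) with hm
      have hy' : b * n * u = x * tor D A d * m * u := by rw [← hxd, hm]; group
      rw [hy'] at hys
      obtain ⟨d0, hd0⟩ := monomial_conj_tor g (hmem w) c
      have hux : s * u * s⁻¹ ∈ UP F g (toNeg D (wf A (word w))) :=
        tor_conj_UP g c (fun r hr => hr.1.1) hu'
      have hxx : s * x * s⁻¹ ∈ D.posUnipotent F := tor_conj_posUnipotent g c hx
      have e1 : (s * x * s⁻¹ * tor D A (d * (c * d0⁻¹))) * m * (s * u * s⁻¹) =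
          x * tor D A d * m * u := by
        rw [map_mul, map_mul, map_inv, ← hd0]
        have hcd : tor D A d * s = s * tor D A d := tor_mul_comm d c
        calc _ = s * x * s⁻¹ * (tor D A d * s) * m * u * s⁻¹ := by simp only [s, m]; group
          _ = s * (x * tor D A d * m * u) * s⁻¹ := by rw [hcd]; group
          _ = _ := by rw [← hys, mul_inv_cancel_right]
      obtain ⟨e2, e3⟩ := normal_form_unique h (hact w)
        (mul_mem (pos_le_borel hxx) (tor_mem_borel g _))
        (mul_mem (pos_le_borel hx) (tor_mem_borel g d)) hux hu' e1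
      have e4 : x⁻¹ * (s * x * s⁻¹) = tor D A (d * (d * (c * d0⁻¹))⁻¹) := by
        rw [map_mul _ d, map_inv, eq_mul_inv_iff_mul_eq, mul_assoc, e2, inv_mul_cancel_left]
      have e5 := Subgroup.mem_bot.1 ((posUnipotent_inf_diagonal h).le
        (Subgroup.mem_inf.2 ⟨mul_mem (inv_mem hx) hxx,
          by rw [e4, diagonalSubgroup_eq g]; exact ⟨_, rfl⟩⟩))
      have e6 : tor D A c = tor D A d0 := by
        rw [e4, _root_.mul_inv_rev, mul_comm d, inv_mul_cancel_right, _root_.mul_inv_rev, inv_inv, map_mul,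
          map_inv, mul_inv_eq_one] at e5
        exact e5.symm
      rw [inv_mul_eq_one] at e5
      have hst : w ∈ St := by
        refine (hSt w).2 fun r => ?_
        rw [hwf]
        exact chi_conj h (hact w) (hd0.trans e6.symm) r.isLt
      refine ⟨((⟨x, hUpos ▸ hx, e5.symm⟩, ⟨tor D A d, by rw [diagonalSubgroup_eq g]; exact ⟨d, rfl⟩⟩),
        ⟨⟨w, hst⟩, ⟨u, hu', e3⟩⟩), Subtype.ext hy'.symm⟩
  have : Finite CU := inferInstance
  rw [← Nat.card_congr (Equiv.ofBijective f hf), Nat.card_prod, Nat.card_prod, Nat.card_sigma]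
  congr 1
  · congr 1
    show Nat.card CU = _
    have hall : D.posRoots.toFinset.filter D.IsPosRoot = D.posRoots.toFinset :=
      Finset.filter_true_of_mem fun r hr => posRoots_mem.1 (List.mem_toFinset.1 hr)
    rw [card_fixed h (Q := D.IsPosRoot) (fun r hr => hr) ?_ c hR, hall]
    rw [hUpos, card_posUnipotent h, hall,
        List.toFinset_card_of_nodup (show D.posRoots.Nodup from List.Nodup.filter _ List.nodup_range),
        length_posRoots g]
  · rw [← Finset.sum_coe_sort St]
    refine Finset.sum_congr rfl fun w _ => ?_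
    show Nat.card (CW w.1) = _
    have hQ : D.posRoots.toFinset.filter (toNeg D (wf A (word w.1))) =
        D.posRoots.toFinset.filter fun r => ¬ D.IsPosRoot (wf A (word w.1) r) := by
      refine Finset.filter_congr fun r hr => ?_
      rw [List.mem_toFinset, posRoots_mem] at hr
      exact ⟨fun hn => not_pos_of_isNeg g hn.2,
        fun hn => ⟨hr, isNeg_of_not_pos g (wf_lt g (hl _) hr.1) hn⟩⟩
    rw [card_fixed h (Q := toNeg D (wf A (word w.1))) (fun r hr => hr.1)
      (by rw [card_toNeg h (hact w.1), hQ]) c hR, hQ, Finset.filter_comm]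
    congr 2
    refine Finset.filter_congr fun r hr => ?_
    rw [Finset.mem_filter, List.mem_toFinset, posRoots_mem] at hr
    rw [hrmap w.1 r hr.1.1]

/-- the order of the centraliser of a toral involution -/
theorem card_cent [Fintype F] (v : ℕ) (h2 : (2 : F) ≠ 0) :
    Nat.card {y : GL D.Idx F // y ∈ D.group F ∧
        y * tor D A (sgn F D.rank v) = tor D A (sgn F D.rank v) * y} =
      Fintype.card F ^ (posP D A v).card * Nat.card (D.diagonalSubgroup F) *
        ∑ w ∈ stab h.good v, Fintype.card F ^ invP D A v (rmap w) := by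
  classical
  have hR : ∀ r, chi D A (sgn F D.rank v) r = 1 ↔ pb D A v r = true := by
    intro r
    rw [chi_sgn]
    cases pb D A v r
    · simp only [Bool.false_eq_true, if_false, iff_false]
      intro e
      refine h2 ?_
      have := congrArg Units.val e
      rw [Units.val_neg, Units.val_one] at this
      linear_combination -this
    · simp
  exact card_cent_tor h (sgn F D.rank v) hR fun w =>
    ⟨fun hw r => by rw [chi_sgn, chi_sgn, (Finset.mem_filter.1 hw).2 r],
      fun hw => Finset.mem_filter.2 ⟨Finset.mem_univ _, fun r => pb_of_chi h2 (hw r)⟩⟩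

end CfsgLib.Chev.OddInvol
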