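/-
Rank-one moves of a monomial involution that inverts a fundamental root.
-/
import Cfsg.Agent.Lib.Steinberg.RankOne
import Cfsg.Agent.Lib.Chev.WeylN

set_option autoImplicit false

namespace CfsgLib.Chev.OddInvol

open Cfsg.Lie Matrix CfsgLib.Chev CfsgLib.Steinberg
open CfsgLib.Steinberg.R1Data (up dn)
open scoped MatrixGroups

variable {F : Type*} [Field F] {D : ChevalleyDatum} {A : Aux}

/-- the twist of `SL₂` by the antidiagonal `(0, 1; k, 0)` -/
def thetaFun (k : Fˣ) (y : SL(2, F)) : SL(2, F) :=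
  ⟨!![y 1 1, y 1 0 * ↑k⁻¹; (k : F) * y 0 1, y 0 0], by
    have hy := y.2
    rw [Matrix.det_fin_two] at hy
    rw [Matrix.det_fin_two]
    simp
    field_simp
    linear_combination hy⟩

@[simp] lemma thetaFun_val (k : Fˣ) (y : SL(2, F)) :
    (thetaFun k y : Matrix (Fin 2) (Fin 2) F) =
      !![y 1 1, y 1 0 * ↑k⁻¹; (k : F) * y 0 1, y 0 0] := rfl

/-- the twist as a homomorphism -/
def theta (k : Fˣ) : SL(2, F) →* SL(2, F) :=
  MonoidHom.mk' (thetaFun k) fun a b => by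
    refine Subtype.ext ?_
    ext p q
    fin_cases p <;> fin_cases q <;>
      simp [SpecialLinearGroup.coe_mul, Matrix.mul_apply, Fin.sum_univ_two] <;>
      field_simp <;> ring

/-- the monomial element of `SL₂` -/
def nn (c : Fˣ) : SL(2, F) := ⟨!![0, (c : F); -(c⁻¹ : Fˣ), 0], by simp [Matrix.det_fin_two]⟩

@[simp] lemma nn_val (c : Fˣ) :
    (nn c : Matrix (Fin 2) (Fin 2) F) = !![0, (c : F); -(c⁻¹ : Fˣ), 0] := rfl

@[simp] lemma theta_apply (k : Fˣ) (y : SL(2, F)) : theta k y = thetaFun k y := rfl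

/-- the diagonal element of `SL₂` -/
def dd (l : Fˣ) : SL(2, F) := ⟨!![(l : F), 0; 0, (l⁻¹ : Fˣ)], by simp [Matrix.det_fin_two]⟩

@[simp] lemma dd_val (l : Fˣ) :
    (dd l : Matrix (Fin 2) (Fin 2) F) = !![(l : F), 0; 0, (l⁻¹ : Fˣ)] := rfl

lemma nn_eq (c : Fˣ) : nn c = up (c : F) * dn (-(c : F)⁻¹) * up (c : F) := by
  refine Subtype.ext ?_
  ext p q
  fin_cases p <;> fin_cases q <;>
    simp [SpecialLinearGroup.coe_mul, Matrix.mul_apply, Fin.sum_univ_two]

lemma dd_eq (l : Fˣ) : dd l = nn l * nn (-1) := by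
  refine Subtype.ext ?_
  ext p q
  fin_cases p <;> fin_cases q <;>
    simp [SpecialLinearGroup.coe_mul, Matrix.mul_apply, Fin.sum_univ_two]

lemma exists_half (b : Fˣ) (h2 : (2 : F) ≠ 0) :
    ∃ M : SL(2, F), theta (b * b) M = M * nn b⁻¹ := by
  obtain ⟨M, hM⟩ : ∃ M : SL(2, F),
      (M : Matrix (Fin 2) (Fin 2) F) = !![(b : F)⁻¹, -(2 : F)⁻¹; 1, (b : F) / 2] :=
    ⟨⟨_, by rw [Matrix.det_fin_two]; simp; field_simp; norm_num⟩, rfl⟩
  refine ⟨M, ?_⟩
  refine Subtype.ext ?_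
  ext p q
  fin_cases p <;> fin_cases q <;>
    simp [hM, SpecialLinearGroup.coe_mul, Matrix.mul_apply, Fin.sum_univ_two] <;>
    field_simp

lemma exists_rot [Fintype F] (h2 : (2 : F) ≠ 0) (k l : Fˣ) :
    ∃ M : SL(2, F), theta k M = M * dd l := by
  have hchar : ringChar F ≠ 2 := by
    intro h
    exact h2 (by exact_mod_cast h ▸ ringChar.Nat.cast_ringChar (R := F))
  obtain ⟨P, Q, hPQ⟩ : ∃ P Q : F, P * P - k * (Q * Q) = l := by
    obtain ⟨a, b, hab⟩ := FiniteField.exists_root_sum_quadratic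
      (f := Polynomial.X ^ 2 - Polynomial.C (l : F))
      (g := Polynomial.C (-(k : F)) * Polynomial.X ^ 2)
      (Polynomial.degree_X_pow_sub_C (by norm_num) _)
      (Polynomial.degree_C_mul_X_pow 2 (neg_ne_zero.2 k.ne_zero)) (by
        rw [FiniteField.odd_card_of_char_ne_two hchar])
    refine ⟨a, b, ?_⟩
    simp at hab
    linear_combination hab
  obtain ⟨M, hM⟩ : ∃ M : SL(2, F),
      (M : Matrix (Fin 2) (Fin 2) F) = !![P / l, Q; (k : F) * Q / l, P] :=
    ⟨⟨_, by rw [Matrix.det_fin_two]; simp; field_simp; linear_combination hPQ⟩, rfl⟩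
  refine ⟨M, ?_⟩
  refine Subtype.ext ?_
  ext p q
  fin_cases p <;> fin_cases q <;>
    simp [hM, SpecialLinearGroup.coe_mul, Matrix.mul_apply, Fin.sum_univ_two] <;>
    field_simp

/-- `x` inverts the root `r` with scalar `k` -/
def Inv1 (g : Good D A) (x : GL D.Idx F) (r : ℕ) (k : F) : Prop :=
  ∀ t, x * xG g r t * x⁻¹ = xG g (A.neg r) (k * t)

variable (g : Good D A)

lemma inv1_back {x : GL D.Idx F} {r : ℕ} {k : Fˣ} (hx : x * x = 1) (h : Inv1 g x r k) (t : F) :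
    x * xG g (A.neg r) t * x⁻¹ = xG g r (↑k⁻¹ * t) := by
  have hinv : x⁻¹ = x := inv_eq_of_mul_eq_one_right hx
  have h1 := h (↑k⁻¹ * t)
  rw [← mul_assoc, Units.mul_inv, one_mul, hinv] at h1
  rw [← h1, hinv]
  calc x * (x * xG g r (↑k⁻¹ * t) * x) * x = (x * x) * xG g r (↑k⁻¹ * t) * (x * x) := by group
    _ = _ := by rw [hx, one_mul, mul_one]

lemma conj_phi {φ : SL(2, F) →* GL D.Idx F} {r : ℕ}
    (hφ : ∀ (y : SL(2, F)) (t : F),
      ((y : Matrix (Fin 2) (Fin 2) F) = !![1, t; 0, 1] → φ y = xG g r t) ∧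
      ((y : Matrix (Fin 2) (Fin 2) F) = !![1, 0; t, 1] → φ y = xG g (A.neg r) t))
    {x : GL D.Idx F} {k : Fˣ} (hx : x * x = 1) (h : Inv1 g x r k) (y : SL(2, F)) :
    x * φ y * x⁻¹ = φ (theta k y) := by
  have hu : ∀ t : F, x * φ (up t) * x⁻¹ = φ (theta k (up t)) := by
    intro t
    rw [(hφ (up t) t).1 rfl, h t, (hφ (theta k (up t)) ((k : F) * t)).2]
    simp
  have hd : ∀ t : F, x * φ (dn t) * x⁻¹ = φ (theta k (dn t)) := by
    intro t
    rw [(hφ (dn t) t).2 rfl, inv1_back g hx h t, (hφ (theta k (dn t)) (↑k⁻¹ * t)).1]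
    simp [mul_comm]
  have e : (MulAut.conj x).toMonoidHom.comp φ = φ.comp (theta k) := by
    refine MonoidHom.eq_of_eqOn_dense R1Data.closure_gens ?_
    rintro _ (⟨t, rfl⟩ | rfl)
    · simpa using hu t
    · have e : (R1Data.wS : SL(2, F)) = up 1 * dn (-1) * up 1 := by
        refine Subtype.ext ?_
        ext p q
        fin_cases p <;> fin_cases q <;>
          simp [SpecialLinearGroup.coe_mul, Matrix.mul_apply, Fin.sum_univ_two]
      rw [e]
      simp only [map_mul, MonoidHom.comp_apply, MulEquiv.coe_toMonoidHom, MulAut.conj_apply, hu, hd]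
  exact DFunLike.congr_fun e y

lemma phi_mem {φ : SL(2, F) →* GL D.Idx F} {r : ℕ}
    (hφ : ∀ (y : SL(2, F)) (t : F),
      ((y : Matrix (Fin 2) (Fin 2) F) = !![1, t; 0, 1] → φ y = xG g r t) ∧
      ((y : Matrix (Fin 2) (Fin 2) F) = !![1, 0; t, 1] → φ y = xG g (A.neg r) t))
    (y : SL(2, F)) : φ y ∈ D.group F := by
  have hy : y ∈ Subgroup.closure (Set.range (up (F := F)) ∪ {R1Data.wS}) := by
    rw [R1Data.closure_gens]; trivial
  refine (Subgroup.closure_le ((D.group F).comap φ)).2 ?_ hy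
  rintro _ (⟨t, rfl⟩ | rfl)
  · show φ _ ∈ D.group F
    rw [(hφ _ t).1 rfl]
    exact xG_mem_group g _ _
  · show φ _ ∈ D.group F
    have e : (R1Data.wS : SL(2, F)) = up 1 * dn (-1) * up 1 := by
      refine Subtype.ext ?_
      ext p q
      fin_cases p <;> fin_cases q <;>
        simp [SpecialLinearGroup.coe_mul, Matrix.mul_apply, Fin.sum_univ_two]
    rw [e, map_mul, map_mul, (hφ (up 1) 1).1 rfl, (hφ (dn (-1)) (-1)).2 rfl]
    exact mul_mem (mul_mem (xG_mem_group g _ _) (xG_mem_group g _ _)) (xG_mem_group g _ _)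

lemma phi_nn {φ : SL(2, F) →* GL D.Idx F} {r : ℕ} (hr : r < D.nroots)
    (hφ : ∀ (y : SL(2, F)) (t : F),
      ((y : Matrix (Fin 2) (Fin 2) F) = !![1, t; 0, 1] → φ y = xG g r t) ∧
      ((y : Matrix (Fin 2) (Fin 2) F) = !![1, 0; t, 1] → φ y = xG g (A.neg r) t))
    (c : Fˣ) : φ (nn c) = nG g r (c : F) := by
  rw [nn_eq, map_mul, map_mul, (hφ (up (c : F)) c).1 rfl,
    (hφ (dn (-(c : F)⁻¹)) _).2 rfl, nG, g.neg_eq r hr]

/-- multiplication by a monomial element of the fundamental root -/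
lemma conj_nS {x : GL D.Idx F} {i : ℕ} (hi : i < D.rank) {b : Fˣ} (h2 : (2 : F) ≠ 0)
    (hx : x * x = 1) (h : Inv1 g x (D.simple i) ((b : F) * b)) :
    ∃ y ∈ D.group F, ∃ c : Fˣ, y⁻¹ * x * y = nG g (D.simple i) (c : F) * x := by
  obtain ⟨φ, hφ⟩ := exists_sl2 (F := F) g (D.simple i) (g.simple_lt i hi)
  obtain ⟨M, hM⟩ := exists_half b h2
  refine ⟨φ M, phi_mem g hφ M, b⁻¹, ?_⟩
  have := conj_phi g hφ (k := b * b) hx (by simpa [Units.val_mul] using h) M
  rw [hM, map_mul, phi_nn g (g.simple_lt i hi) hφ] at this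
  rw [mul_inv_eq_iff_eq_mul] at this
  rw [mul_assoc, this]
  group

/-- multiplication by a torus element of the fundamental root -/
lemma conj_tor [Fintype F] {x : GL D.Idx F} {i : Fin D.rank} {k : Fˣ} (h2 : (2 : F) ≠ 0)
    (hx : x * x = 1) (h : Inv1 g x (D.simple i) (k : F)) (l : Fˣ) :
    ∃ y ∈ D.group F, y⁻¹ * x * y = tor D A (Pi.mulSingle i l) * x := by
  have hi := i.isLt
  obtain ⟨φ, hφ⟩ := exists_sl2 (F := F) g (D.simple i) (g.simple_lt i hi)
  obtain ⟨M, hM⟩ := exists_rot h2 k l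
  refine ⟨φ M, phi_mem g hφ M, ?_⟩
  have := conj_phi g hφ hx h M
  rw [hM, map_mul, dd_eq, map_mul, phi_nn g (g.simple_lt i hi) hφ,
    phi_nn g (g.simple_lt i hi) hφ] at this
  rw [mul_inv_eq_iff_eq_mul] at this
  rw [← hG_simple g, mul_assoc, this, hG]
  simp only [Units.val_neg, Units.val_one]
  group

end CfsgLib.Chev.OddInvol
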