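/-
Every involution of a Chevalley group in odd characteristic is conjugate into the torus.
-/
import Cfsg.Agent.Lib.Chev.OddInvol.Rank1
import Cfsg.Agent.Lib.KnownB.ChevField

set_option autoImplicit false

namespace CfsgLib.Chev.OddInvol

open Cfsg.Lie Matrix CfsgLib.Chev

variable {F : Type*} [Field F] {D : ChevalleyDatum} {A : Aux}

/-- conjugate into the torus -/
def Toral (A : Aux) (x : GL D.Idx F) : Prop :=
  ∃ y ∈ D.group F, ∃ c, y⁻¹ * x * y = tor D A c

lemma Toral.of_conj {x x' : GL D.Idx F} {y : GL D.Idx F} (hy : y ∈ D.group F)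
    (e : y⁻¹ * x * y = x') (h : Toral A x') : Toral A x := by
  obtain ⟨z, hz, c, hc⟩ := h
  exact ⟨y * z, mul_mem hy hz, c, by rw [← hc, ← e]; group⟩

lemma sq_conj {x y : GL D.Idx F} (hx : x * x = 1) : (y⁻¹ * x * y) * (y⁻¹ * x * y) = 1 := by
  rw [show (y⁻¹ * x * y) * (y⁻¹ * x * y) = y⁻¹ * (x * x) * y by group, hx]; group

/-- the number of inversions of a root map -/
noncomputable def inv' (D : ChevalleyDatum) (σ : ℕ → ℕ) : ℕ :=
  (D.posRoots.toFinset.filter fun r => ¬ D.IsPosRoot (σ r)).card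

lemma _root_.CfsgLib.Chev.Acts.invol {g : Good D A} {n : GL D.Idx F} {σ : ℕ → ℕ} (hσ : Acts g n σ) (hn : n * n = 1)
    {r : ℕ} (hr : r < D.nroots) : σ (σ r) = r :=
  (hσ.mul hσ).unique (τ := id) (by rw [hn, ← map_one (tor D A)]; exact acts_tor g 1) hr

/-- a root map with positive images of the fundamental roots fixes all roots -/
lemma eq_id (h : Std D A) {n : GL D.Idx F} (hn : n ∈ D.monomialSubgroup F) {σ : ℕ → ℕ}
    (hσ : Acts h.good n σ) (hs : ∀ i < D.rank, D.IsPosRoot (σ (D.simple i))) :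
    ∀ r < D.nroots, σ r = r := by
  classical
  have g := h.good
  obtain ⟨w, hw, c, hc⟩ := monomial_exists_word g hn
  have hact : Acts g n (wf A w) := by
    rw [hc]; exact (acts_tor g c).mul (nW_acts g hw)
  have hsame : ∀ r < D.nroots, σ r = wf A w r := fun r hr => hσ.unique hact hr
  have hex : ∃ k, ∃ w', Letters D w' ∧ SameOn D (wf A w') (wf A w) ∧ w'.length = k :=
    ⟨_, w, hw, fun _ _ => rfl, rfl⟩
  obtain ⟨w', hw', hsame', hlen⟩ := Nat.find_spec hex
  have hred : RedWord D A w' := fun w'' h'' e => by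
    rw [hlen]
    exact Nat.find_min' hex ⟨w'', h'', fun r hr => (e r hr).trans (hsame' r hr), rfl⟩
  have h0 : nInv D A w' = 0 := by
    rw [nInv, Finset.card_eq_zero, Finset.filter_eq_empty_iff]
    intro r hr
    rw [List.mem_toFinset, posRoots_mem] at hr
    rw [not_not, hsame' r hr.1, ← hsame r hr.1]
    rcases pos_or_pos_neg g (hσ.map.1 r hr.1) with hp | hp
    · exact hp
    · exfalso
      refine not_pos_of_isNeg g ((g.negRoot_iff _ (hσ.map.1 r hr.1)).2 fun j => ?_) ?_
      · have := (g.pos_iff _ (g.neg_lt _ (hσ.map.1 r hr.1))).1 hp j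
        rw [g.a_neg _ (hσ.map.1 r hr.1)] at this
        omega
      · refine (g.pos_iff _ (hσ.map.1 r hr.1)).2 fun j => ?_
        by_cases hj : j < D.rank
        · rw [simple_eq_sum g hσ.map hr.1 j hj]
          refine Finset.sum_nonneg fun k hk => mul_nonneg ((g.pos_iff r hr.1).1 hr k) ?_
          exact (g.pos_iff _ (hs k (Finset.mem_range.1 hk)).1).1 (hs k (Finset.mem_range.1 hk)) j
        · rw [g.a_zero _ (hσ.map.1 r hr.1) j (not_lt.1 hj)]
  rw [nInv_of_red g hw' hred, List.length_eq_zero_iff] at h0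
  subst h0
  exact fun r hr => (hsame r hr).trans (hsame' r hr).symm

lemma inv_refl_lt (g : Good D A) {σ : ℕ → ℕ} (hσ : RootMap D A σ)
    (hinv : ∀ r < D.nroots, σ (σ r) = r) {i : ℕ} (hi : i < D.rank)
    (hneg : σ (D.simple i) = A.neg (D.simple i)) :
    inv' D (A.refl i ∘ σ) < inv' D σ := by
  classical
  apply Finset.card_lt_card
  rw [Finset.ssubset_iff]
  refine ⟨D.simple i, ?_, fun r hr => ?_⟩
  · simp only [Finset.mem_filter, Function.comp_apply, not_and, not_not]
    intro _
    rw [hneg, g.refl_neg i hi _ (g.simple_lt i hi), refl_simple g hi,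
      g.neg_neg _ (g.simple_lt i hi)]
    exact simple_pos g hi
  rcases Finset.mem_insert.1 hr with rfl | hr
  · simp only [Finset.mem_filter, List.mem_toFinset, posRoots_mem]
    exact ⟨simple_pos g hi, by rw [hneg]; exact not_pos_neg g (simple_pos g hi)⟩
  simp only [Finset.mem_filter, List.mem_toFinset, posRoots_mem, Function.comp_apply] at hr ⊢
  refine ⟨hr.1, fun hp => hr.2 (refl_pos g hi hp fun e => ?_).1⟩
  have h1 := congrArg σ e
  rw [hinv r hr.1.1, hneg] at h1
  exact not_pos_neg g (simple_pos g hi) (h1 ▸ hr.1)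

lemma inv_conj_lt (g : Good D A) {σ : ℕ → ℕ} (hσ : RootMap D A σ)
    (hinv : ∀ r < D.nroots, σ (σ r) = r) {i : ℕ} (hi : i < D.rank)
    (hneg : ¬ D.IsPosRoot (σ (D.simple i))) (hne : σ (D.simple i) ≠ A.neg (D.simple i)) :
    inv' D (A.refl i ∘ (σ ∘ A.refl i)) < inv' D σ := by
  classical
  have hsi := g.simple_lt i hi
  have hlt := hσ.1 _ hsi
  -- the image of the fundamental root lies strictly below
  have hβ : D.IsPosRoot (A.neg (σ (D.simple i))) := (pos_or_pos_neg g hlt).resolve_left hneg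
  have hβne : A.neg (σ (D.simple i)) ≠ D.simple i := fun e =>
    hne (by rw [← g.neg_neg _ hlt, e])
  set S := (D.posRoots.toFinset.filter fun r => ¬ D.IsPosRoot (σ r))
  have hmem : D.simple i ∈ S := by
    simp only [S, Finset.mem_filter, List.mem_toFinset, posRoots_mem]
    exact ⟨simple_pos g hi, hneg⟩
  refine lt_of_le_of_lt ?_ (Finset.card_erase_lt_of_mem hmem)
  refine Finset.card_le_card_of_injOn (A.refl i) (fun r hr => ?_) (fun a ha b hb e => ?_)
  · simp only [Finset.coe_filter, List.mem_toFinset, posRoots_mem, Function.comp_apply,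
      Set.mem_setOf_eq] at hr
    obtain ⟨hr, hn⟩ := hr
    have hri : r ≠ D.simple i := by
      rintro rfl
      apply hn
      rw [refl_simple g hi, hσ.map_neg g hsi]
      exact (refl_pos g hi hβ hβne).1
    obtain ⟨h1, h2⟩ := refl_pos g hi hr hri
    simp only [Finset.coe_erase, Set.mem_diff, Finset.mem_coe, Set.mem_singleton_iff, S,
      Finset.mem_filter, List.mem_toFinset, posRoots_mem]
    refine ⟨⟨h1, fun hp => hn (refl_pos g hi hp fun e => ?_).1⟩, h2⟩
    have h3 := congrArg σ e
    rw [hinv _ h1.1] at h3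
    exact hneg (h3 ▸ h1)
  · simp only [Finset.coe_filter, List.mem_toFinset, posRoots_mem, Set.mem_setOf_eq] at ha hb
    simpa [g.refl_refl i hi a ha.1.1, g.refl_refl i hi b hb.1.1] using congrArg (A.refl i) e

/-- the check on pairs of fundamental roots -/
noncomputable def pairCheck (D : ChevalleyDatum) (A : Aux) : Bool :=
  (List.range D.rank).all fun i => (List.range D.rank).all fun j =>
    decide (i = j ∨ A.cart i (D.simple j) % 2 = 1 ∨ A.cart j (D.simple i) % 2 = 1 ∨
      (A.cart i (D.simple j) = 0 ∧ A.eta i (D.simple j) = 1))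

/-- pairwise orthogonal fundamental roots -/
def Orth (D : ChevalleyDatum) (A : Aux) (L : List ℕ) : Prop :=
  Letters D L ∧ L.Nodup ∧ ∀ i ∈ L, ∀ j ∈ L, i ≠ j →
    A.cart i (D.simple j) = 0 ∧ A.eta i (D.simple j) = 1

lemma Orth.tail {i : ℕ} {L : List ℕ} (h : Orth D A (i :: L)) : Orth D A L :=
  ⟨h.1.tail, (List.nodup_cons.1 h.2.1).2, fun a ha b hb =>
    h.2.2 a (List.mem_cons_of_mem _ ha) b (List.mem_cons_of_mem _ hb)⟩

lemma nS_comm (g : Good D A) {i j : ℕ} (hi : i < D.rank) (hj : j < D.rank)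
    (h0 : A.cart i (D.simple j) = 0) (he : A.eta i (D.simple j) = 1) :
    nS F g i * nS F g j = nS F g j * nS F g i := by
  have hsj := g.simple_lt j hj
  have e1 : A.refl i (D.simple j) = D.simple j :=
    g.a_inj _ (g.refl_lt i hi _ hsj) _ hsj fun k hk => by
      rw [g.a_refl i hi _ hsj k hk, h0]; simp
  have := nS_conj_nG (F := F) g hi hsj 1
  rw [e1, he, Int.cast_one, one_mul] at this
  exact (mul_inv_eq_iff_eq_mul.1 this)

lemma wf_orth (g : Good D A) : ∀ {L : List ℕ}, Orth D A L → ∀ m < D.rank,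
    (m ∈ L → wf A L (D.simple m) = A.neg (D.simple m)) ∧
    (∀ r < D.nroots, ∀ j < D.rank, j ∉ L → A.a (wf A L r) j = A.a r j)
  | [], _, m, _ => ⟨fun h => absurd h List.not_mem_nil, fun _ _ _ _ _ => rfl⟩
  | i :: L, h, m, hm => by
    obtain ⟨hiL, -⟩ := List.nodup_cons.1 h.2.1
    have hi := h.1.head
    have hfix : ∀ {L : List ℕ}, Letters D L → ∀ k < D.rank,
        (∀ j ∈ L, A.cart j (D.simple k) = 0) → wf A L (D.simple k) = D.simple k := by
      intro L
      induction L with
      | nil => intros; rfl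
      | cons j L ih =>
        intro hL k hk h0
        show A.refl j (wf A L _) = _
        rw [ih hL.tail k hk fun a ha => h0 a (List.mem_cons_of_mem _ ha)]
        refine g.a_inj _ (g.refl_lt j hL.head _ (g.simple_lt k hk)) _ (g.simple_lt k hk)
          fun a ha => ?_
        rw [g.a_refl j hL.head _ (g.simple_lt k hk) a ha, h0 j List.mem_cons_self]; simp
    refine ⟨fun hmem => ?_, fun r hr j hj hjn => ?_⟩
    · show A.refl i (wf A L _) = _
      by_cases e : m = i
      · subst e
        rw [hfix h.1.tail m hm fun a ha => (h.2.2 a (List.mem_cons_of_mem _ ha) m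
          List.mem_cons_self (fun e => hiL (e ▸ ha))).1, refl_simple g hm]
      · have hmL := (List.mem_cons.1 hmem).resolve_left e
        rw [(wf_orth g h.tail m hm).1 hmL, g.refl_neg i hi _ (g.simple_lt m hm)]
        congr 1
        refine g.a_inj _ (g.refl_lt i hi _ (g.simple_lt m hm)) _ (g.simple_lt m hm) fun a ha => ?_
        rw [g.a_refl i hi _ (g.simple_lt m hm) a ha,
          (h.2.2 i List.mem_cons_self m hmem (Ne.symm e)).1]; simp
    · show A.a (A.refl i (wf A L r)) j = _
      rw [g.a_refl i hi _ (wf_lt g h.1.tail hr) j hj,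
        if_neg (fun e : j = i => hjn (e ▸ List.mem_cons_self)), sub_zero]
      exact (wf_orth g h.tail m hm).2 r hr j hj fun hh => hjn (List.mem_cons_of_mem _ hh)

/-- the square and the conjugation action of a product over orthogonal roots -/
lemma orth_mul (g : Good D A) : ∀ {L : List ℕ}, Orth D A L → ∀ c : Fin D.rank → Fˣ,
    nW F g L * tor D A c * (nW F g L)⁻¹ =
      tor D A (fun i => if i.val ∈ L then c i * (chi D A c (D.simple i))⁻¹ else c i) ∧
    nW F g L * nW F g L = tor D A (fun i => if i.val ∈ L then -1 else 1)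
  | [], _, c => by
    refine ⟨?_, ?_⟩
    · simp [nW]
    · simp [nW, show (fun _ : Fin D.rank => (1 : Fˣ)) = 1 from rfl]
  | i :: L, h, c => by
    obtain ⟨hiL, -⟩ := List.nodup_cons.1 h.2.1
    have hi := h.1.head
    have e : nW F g (i :: L) = nS F g i * nW F g L := by simp [nW]
    have horth : ∀ j ∈ L, A.cart i (D.simple j) = 0 ∧ A.cart j (D.simple i) = 0 := fun j hj =>
      have hne : i ≠ j := fun e => hiL (e ▸ hj)
      ⟨(h.2.2 i List.mem_cons_self j (List.mem_cons_of_mem _ hj) hne).1,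
        (h.2.2 j (List.mem_cons_of_mem _ hj) i List.mem_cons_self (Ne.symm hne)).1⟩
    have hcomm : nS F g i * nW F g L = nW F g L * nS F g i := by
      refine Commute.list_prod_right _ _ fun y hy => ?_
      obtain ⟨j, hj, rfl⟩ := List.mem_map.1 hy
      have hne : i ≠ j := fun e => hiL (e ▸ hj)
      exact nS_comm g hi (h.1.tail j hj)
        (h.2.2 i List.mem_cons_self j (List.mem_cons_of_mem _ hj) hne).1
        (h.2.2 i List.mem_cons_self j (List.mem_cons_of_mem _ hj) hne).2
    constructor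
    · rw [e, show nS F g i * nW F g L * tor D A c * (nS F g i * nW F g L)⁻¹ =
        nS F g i * (nW F g L * tor D A c * (nW F g L)⁻¹) * (nS F g i)⁻¹ by group,
        (orth_mul g h.tail c).1, nS_conj_tor g hi]
      congr 1
      funext k
      by_cases hk : k = ⟨i, hi⟩
      · subst hk
        simp only [Pi.mul_apply, Pi.mulSingle_eq_same, List.mem_cons, true_or, if_true]
        rw [if_neg hiL, chi, ← Finset.prod_inv_distrib]
        congr 1
        refine Finset.prod_congr rfl fun j _ => ?_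
        rw [_root_.zpow_neg]
        split_ifs with hj
        · rw [(horth j hj).2]; simp
        · rfl
      · have hk' : k.val ≠ i := fun e => hk (Fin.ext e)
        simp [hk, hk']
    · rw [e]
      conv_lhs => arg 2; rw [hcomm]
      rw [show nS F g i * nW F g L * (nW F g L * nS F g i) =
        nS F g i * (nW F g L * nW F g L) * (nS F g i)⁻¹ * (nS F g i * nS F g i) by group,
        (orth_mul g h.tail c).2, nS_conj_tor g hi, nS_sq g hi, ← Units.val_one (α := F),
        ← Units.val_neg, hG_simple g ⟨i, hi⟩, ← map_inv, ← map_mul]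
      congr 1
      funext k
      by_cases hk : k = ⟨i, hi⟩
      · subst hk
        simp only [Pi.mul_apply, Pi.inv_apply, Pi.mulSingle_eq_same, List.mem_cons, true_or, if_true]
        rw [if_neg hiL, one_mul, Finset.prod_eq_one, one_mul, inv_neg, inv_one]
        intro j _
        split_ifs with hj
        · rw [(horth j hj).2]; simp
        · simp
      · have hk' : k.val ≠ i := fun e => hk (Fin.ext e)
        simp [hk, hk']

/-- some inverted fundamental root can be reached with a square scalar, or rotated to one -/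
lemma inverted (h : Std D A) (hU : CfsgLib.KnownB.ChevField.Unimodular D)
    (hP : pairCheck D A = true) {n : GL D.Idx F}
    (hn : n ∈ D.monomialSubgroup F) (hn2 : n * n = 1) {σ : ℕ → ℕ} (hσ : Acts h.good n σ)
    (hsym : ∀ i < D.rank, D.IsPosRoot (σ (D.simple i)) ∨ σ (D.simple i) = A.neg (D.simple i))
    (hex : ∃ i < D.rank, ¬ D.IsPosRoot (σ (D.simple i)))
    (horth : ∀ i < D.rank, ∀ j < D.rank, σ (D.simple i) = A.neg (D.simple i) →
      σ (D.simple j) = A.neg (D.simple j) → i ≠ j → A.cart i (D.simple j) % 2 ≠ 1) :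
    ∃ i < D.rank, σ (D.simple i) = A.neg (D.simple i) ∧
      ∃ b : Fˣ, Inv1 h.good n (D.simple i) ((b : F) * b) := by
  classical
  have g := h.good
  set J := (List.range D.rank).filter fun i => decide (σ (D.simple i) = A.neg (D.simple i))
  have hJ : ∀ i, i ∈ J ↔ i < D.rank ∧ σ (D.simple i) = A.neg (D.simple i) := fun i => by
    simp [J]
  have hO : Orth D A J := by
    refine ⟨fun i hi => ((hJ i).1 hi).1, List.Nodup.filter _ List.nodup_range, fun i hi j hj hne => ?_⟩
    obtain ⟨hi, hi'⟩ := (hJ i).1 hi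
    obtain ⟨hj, hj'⟩ := (hJ j).1 hj
    simp only [pairCheck, List.all_eq_true, List.mem_range, decide_eq_true_eq] at hP
    rcases hP i hi j hj with e | e | e | e
    · exact absurd e hne
    · exact absurd e (horth i hi j hj hi' hj' hne)
    · exact absurd e (horth j hj i hi hj' hi' (Ne.symm hne))
    · exact e
  have hact : Acts g (n * (nW F g J)) (σ ∘ wf A J) := hσ.mul (nW_acts g hO.1)
  have hmem : n * nW F g J ∈ D.monomialSubgroup F := mul_mem hn (nW_mem g hO.1)
  -- the product fixes every root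
  have hid := eq_id h hmem hact fun m hm => by
    show D.IsPosRoot (σ (wf A J (D.simple m)))
    have hsm := g.simple_lt m hm
    by_cases hmJ : m ∈ J
    · rw [(wf_orth g hO m hm).1 hmJ, hσ.map.map_neg g hsm, ((hJ m).1 hmJ).2, g.neg_neg _ hsm]
      exact simple_pos g hm
    have hmσ := (hsym m hm).resolve_right fun e => hmJ ((hJ m).2 ⟨hm, e⟩)
    -- a positive coordinate outside `J`
    obtain ⟨j, hj, hjJ, hjp⟩ : ∃ j < D.rank, j ∉ J ∧ 0 < A.a (σ (D.simple m)) j := by
      by_contra hcon
      push Not at hcon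
      have h1 := simple_eq_sum g hσ.map hmσ.1 m hm
      rw [hσ.invol hn2 hsm, g.a_simple m hm m hm, if_pos rfl, Finset.sum_eq_zero] at h1
      · omega
      · intro k hk
        have hk := Finset.mem_range.1 hk
        by_cases hkJ : k ∈ J
        · rw [((hJ k).1 hkJ).2, g.a_neg _ (g.simple_lt k hk), g.a_simple k hk m hm,
            if_neg (fun e : m = k => hmJ (e ▸ hkJ))]
          simp
        · rw [le_antisymm (hcon k hk hkJ) ((g.pos_iff _ hmσ.1).1 hmσ k), zero_mul]
    have hlt := hσ.map.1 _ (wf_lt g hO.1 hsm)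
    rcases pos_or_pos_neg g hlt with hp | hp
    · exact hp
    exfalso
    -- coordinates outside `J` are those of the image of the root
    have key : A.a (σ (wf A J (D.simple m))) j = A.a (σ (D.simple m)) j := by
      rw [simple_eq_sum g hσ.map (wf_lt g hO.1 hsm) j hj,
        simple_eq_sum g hσ.map hsm j hj]
      refine Finset.sum_congr rfl fun k hk => ?_
      have hk := Finset.mem_range.1 hk
      by_cases hkJ : k ∈ J
      · rw [((hJ k).1 hkJ).2, g.a_neg _ (g.simple_lt k hk), g.a_simple k hk j hj,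
          if_neg (fun e : j = k => hjJ (e ▸ hkJ))]
        simp
      · rw [(wf_orth g hO m hm).2 _ hsm k hk hkJ]
    have := (g.pos_iff _ (g.neg_lt _ hlt)).1 hp j
    rw [g.a_neg _ hlt, key] at this
    omega
  obtain ⟨i, hi, hneg⟩ := hex
  have hiJ : i ∈ J := (hJ i).2 ⟨hi, (hsym i hi).resolve_left hneg⟩
  -- write the involution as a torus element times the product
  obtain ⟨e, he⟩ : n * nW F g J ∈ (tor D A).range := by
    rw [← diagonalSubgroup_eq g]
    exact mem_diag_of_id h hmem hact hid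
  have hsq := (orth_mul (F := F) g hO 1).2
  set u : Fin D.rank → Fˣ := fun k => if k.val ∈ J then -1 else 1 with hu
  have hnc : n = tor D A (e * u⁻¹) * nW F g J := by
    rw [map_mul, map_inv, ← hsq, he]; group
  set c := e * u⁻¹
  have h1 : (1 : GL D.Idx F) = tor D A (c *
      (fun k => if k.val ∈ J then c k * (chi D A c (D.simple k))⁻¹ else c k) * u) := by
    rw [map_mul, map_mul, ← (orth_mul g hO c).1, ← hsq, ← hn2, hnc]; group
  rw [← map_one (tor D A)] at h1
  have h2 := congrFun (CfsgLib.KnownB.ChevField.tor_eq_iff g hU h1) ⟨i, hi⟩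
  simp only [Pi.one_apply, Pi.mul_apply, hu, hiJ, if_true] at h2
  have hsi := g.simple_lt i hi
  refine ⟨i, hi, ((hJ i).1 hiJ).2, (c ⟨i, hi⟩)⁻¹, fun t => ?_⟩
  have hroot : ∀ {L : List ℕ}, Orth D A L → i ∈ L →
      nW F g L * xG g (D.simple i) t * (nW F g L)⁻¹ = xG g (A.neg (D.simple i)) (-t) := by
    intro L
    induction L with
    | nil => intro _ hh; simp at hh
    | cons a L ih =>
      intro hL hiL
      obtain ⟨haL, -⟩ := List.nodup_cons.1 hL.2.1
      have ha := hL.1.head
      rw [show nW F g (a :: L) * xG g (D.simple i) t * (nW F g (a :: L))⁻¹ =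
        nS F g a * (nW F g L * xG g (D.simple i) t * (nW F g L)⁻¹) * (nS F g a)⁻¹ by
          simp [nW]; group]
      rcases List.mem_cons.1 hiL with rfl | hiL
      · have hfix : ∀ {M : List ℕ}, (∀ b ∈ M, b < D.rank ∧ A.cart b (D.simple i) = 0 ∧
            A.eta b (D.simple i) = 1) →
            nW F g M * xG g (D.simple i) t * (nW F g M)⁻¹ = xG g (D.simple i) t := by
          intro M
          induction M with
          | nil => simp [nW]
          | cons b M ihM =>
            intro hM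
            obtain ⟨hb, hb0, hb1⟩ := hM b List.mem_cons_self
            have e1 : A.refl b (D.simple i) = D.simple i :=
              g.a_inj _ (g.refl_lt b hb _ hsi) _ hsi fun k hk => by
                rw [g.a_refl b hb _ hsi k hk, hb0]; simp
            rw [show nW F g (b :: M) * xG g (D.simple i) t * (nW F g (b :: M))⁻¹ =
              nS F g b * (nW F g M * xG g (D.simple i) t * (nW F g M)⁻¹) * (nS F g b)⁻¹ by
                simp [nW]; group, ihM fun k hk => hM k (List.mem_cons_of_mem _ hk),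
              nS_conj_xG g hb hsi, e1, hb1, Int.cast_one, one_mul]
        rw [hfix fun b hb => ⟨hL.1.tail b hb,
          hL.2.2 b (List.mem_cons_of_mem _ hb) i List.mem_cons_self (fun e => haL (e ▸ hb))⟩,
          nS_conj_xG g hi hsi, refl_simple g hi, g.eta_simple i hi]
        simp
      · have hne : a ≠ i := fun e => haL (e ▸ hiL)
        obtain ⟨h0, h1⟩ := hL.2.2 a List.mem_cons_self i (List.mem_cons_of_mem _ hiL) hne
        rw [ih hL.tail hiL, nS_conj_xG g ha (g.neg_lt _ hsi), g.refl_neg a ha _ hsi]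
        have e1 : A.refl a (D.simple i) = D.simple i :=
          g.a_inj _ (g.refl_lt a ha _ hsi) _ hsi fun k hk => by
            rw [g.a_refl a ha _ hsi k hk, h0]; simp
        have h3 := g.eta_neg a ha _ hsi
        rw [h1, one_mul] at h3
        rw [e1, h3, Int.cast_one, one_mul]
  rw [hnc, show tor D A c * nW F g J * xG g (D.simple i) t * (tor D A c * nW F g J)⁻¹ =
    tor D A c * (nW F g J * xG g (D.simple i) t * (nW F g J)⁻¹) * (tor D A c)⁻¹ by group,
    hroot hO hiJ, tor_conj_xG g c (g.neg_lt _ hsi), chi_neg g c hsi]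
  congr 1
  have h4 : (chi D A c (D.simple i))⁻¹ = -((c ⟨i, hi⟩)⁻¹ * (c ⟨i, hi⟩)⁻¹) := by
    have h5 : c ⟨i, hi⟩ * (c ⟨i, hi⟩ * (chi D A c (D.simple i))⁻¹) = -1 := by
      rw [eq_comm, mul_neg_one, neg_eq_iff_eq_neg] at h2
      exact h2
    calc (chi D A c (D.simple i))⁻¹
        = (c ⟨i, hi⟩)⁻¹ * (c ⟨i, hi⟩)⁻¹ * (c ⟨i, hi⟩ * (c ⟨i, hi⟩ *
            (chi D A c (D.simple i))⁻¹)) := by group
      _ = _ := by rw [h5, mul_neg_one]
  rw [h4]
  simp

/-- a monomial involution is conjugate into the torus -/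
theorem monomial_toral [Fintype F] (h : Std D A) (hU : CfsgLib.KnownB.ChevField.Unimodular D)
    (hP : pairCheck D A = true) (h2 : (2 : F) ≠ 0) :
    ∀ (k : ℕ) {n : GL D.Idx F}, n ∈ D.monomialSubgroup F → n * n = 1 → ∀ {σ : ℕ → ℕ},
      Acts h.good n σ → inv' D σ = k → Toral A n := by
  intro k
  induction k using Nat.strong_induction_on with
  | _ k ih =>
    intro n hn hn2 σ hσ hk
    have g := h.good
    by_cases hall : ∀ i < D.rank, D.IsPosRoot (σ (D.simple i))
    · have hd := mem_diag_of_id h hn hσ (eq_id h hn hσ hall)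
      rw [diagonalSubgroup_eq g] at hd
      obtain ⟨c, hc⟩ := hd
      exact ⟨1, one_mem _, c, by simp [hc]⟩
    push Not at hall
    by_cases hbad : ∃ i < D.rank, ¬ D.IsPosRoot (σ (D.simple i)) ∧
        σ (D.simple i) ≠ A.neg (D.simple i)
    · obtain ⟨i, hi, hneg, hne⟩ := hbad
      have hm := nS_mem_monomial (F := F) g hi
      obtain ⟨e, he⟩ := nS_sq_mem (F := F) g hi
      have hinv : (nS F g i)⁻¹ = tor D A e⁻¹ * nS F g i := by
        rw [map_inv, he]; group
      have hinv' : Acts g (nS F g i)⁻¹ (A.refl i) := by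
        rw [hinv]; exact (acts_tor g e⁻¹).mul (acts_nS g hi)
      have hact := (hinv'.mul hσ).mul (acts_nS g hi)
      refine Toral.of_conj (y := nS F g i) (monomialSubgroup_le_group g hm) rfl
        (ih _ ?_ (mul_mem (mul_mem (inv_mem hm) hn) hm) (sq_conj hn2) hact rfl)
      rw [← hk]
      exact inv_conj_lt g hσ.map (fun r hr => hσ.invol hn2 hr) hi hneg hne
    push Not at hbad
    have hsym : ∀ i < D.rank, D.IsPosRoot (σ (D.simple i)) ∨
        σ (D.simple i) = A.neg (D.simple i) := fun i hi => or_iff_not_imp_left.2 (hbad i hi)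
    -- reduce once a scalar is a square
    have final : ∀ {m : GL D.Idx F}, m ∈ D.monomialSubgroup F → m * m = 1 → Acts g m σ →
        ∀ {i : ℕ}, i < D.rank → σ (D.simple i) = A.neg (D.simple i) → ∀ {b : Fˣ},
        Inv1 g m (D.simple i) ((b : F) * b) → Toral A m := by
      intro m hm hm2 hmσ i hi hneg b hb
      obtain ⟨y, hy, c, e⟩ := conj_nS g hi h2 hm2 hb
      have hN : nG g (D.simple i) (c : F) = tor D A (Pi.mulSingle ⟨i, hi⟩ c) * nS F g i := by
        rw [← hG_simple g ⟨i, hi⟩, hG, nS, nG_neg g (g.simple_lt i hi), inv_mul_cancel_right]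
      have hact : Acts g (nG g (D.simple i) (c : F) * m) (A.refl i ∘ σ) := by
        rw [hN]; exact ((acts_tor g _).mul (acts_nS g hi)).mul hmσ
      refine Toral.of_conj hy e (ih _ ?_ ?_ (e ▸ sq_conj hm2) hact rfl)
      · rw [← hk]
        exact inv_refl_lt g hσ.map (fun r hr => hσ.invol hn2 hr) hi hneg
      · rw [hN]
        exact mul_mem (mul_mem (tor_mem_monomial g _) (nS_mem_monomial g hi)) hm
    by_cases hodd : ∀ i < D.rank, ∀ j < D.rank, σ (D.simple i) = A.neg (D.simple i) →
        σ (D.simple j) = A.neg (D.simple j) → i ≠ j → A.cart i (D.simple j) % 2 ≠ 1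
    · obtain ⟨i, hi, hneg, b, hb⟩ := inverted h hU hP hn hn2 hσ hsym hall hodd
      exact final hn hn2 hσ hi hneg hb
    push Not at hodd
    obtain ⟨i, hi, j, hj, hin, hjn, hne, hc⟩ := hodd
    have getk : ∀ a < D.rank, σ (D.simple a) = A.neg (D.simple a) →
        ∃ u : Fˣ, Inv1 g n (D.simple a) (u : F) := by
      intro a ha hneg
      obtain ⟨u, hu, e⟩ := hσ.conj _ (g.simple_lt a ha)
      exact ⟨Units.mk0 u hu, fun t => by rw [e t, hneg]; rfl⟩
    obtain ⟨ki, hki⟩ := getk i hi hin
    obtain ⟨kj, hkj⟩ := getk j hj hjn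
    obtain ⟨y, hy, e⟩ := conj_tor g (i := ⟨i, hi⟩) h2 hn2 hki kj
    obtain ⟨z, hz⟩ : (2 : ℤ) ∣ 1 - A.cart i (D.simple j) := ⟨(1 - A.cart i (D.simple j)) / 2, by omega⟩
    refine Toral.of_conj hy e (final (mul_mem (tor_mem_monomial g _) hn) (e ▸ sq_conj hn2)
      ((acts_tor g _).mul hσ) hj hjn (b := kj ^ z) fun t => ?_)
    rw [show ∀ T : GL D.Idx F, T * n * xG g (D.simple j) t * (T * n)⁻¹ =
        T * (n * xG g (D.simple j) t * n⁻¹) * T⁻¹ from fun T => by group, hkj t,
      tor_conj_xG g _ (g.neg_lt _ (g.simple_lt j hj)), ← mul_assoc, ← Units.val_mul,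
      ← Units.val_mul]
    congr 3
    rw [chi_neg g _ (g.simple_lt j hj), chi, Finset.prod_eq_single ⟨i, hi⟩]
    · rw [Pi.mulSingle_eq_same, ← _root_.zpow_neg, ← _root_.zpow_add_one, ← _root_.zpow_add]
      congr 1
      show -A.cart i (D.simple j) + 1 = z + z
      omega
    · intro a _ ha; simp [ha]
    · simp

/-- every involution is conjugate to a monomial one -/
theorem exists_monomial [Fintype F] (h : Std D A) (h2 : (2 : F) ≠ 0) {x : GL D.Idx F}
    (hx : x ∈ D.group F) (hx2 : x * x = 1) :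
    ∃ y ∈ D.group F, ∃ n ∈ D.monomialSubgroup F, y⁻¹ * x * y = n := by
  classical
  have g := h.good
  have : Finite (GL D.Idx F) := finite_GL'
  obtain ⟨b, hb, n, hn, σ, hσ, u, hu, rfl⟩ := normal_form_exists h hx
  have hub := pos_le_borel (UP_toNeg_le g σ hu)
  have hinv : (b * n * u)⁻¹ = b * n * u := inv_eq_of_mul_eq_one_right hx2
  have hd := bruhat_unique h hb hub (inv_mem hub) (inv_mem hb) hn (inv_mem hn)
    (hinv.symm.trans (by group))
  obtain ⟨e, he⟩ : n * n ∈ (tor D A).range := by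
    rw [← diagonalSubgroup_eq g]
    have h1 := inv_mem hd
    simpa using h1
  have hb' : u * b ∈ D.borelSubgroup F := mul_mem hub hb
  have hx' : b⁻¹ * (b * n * u) * b = n * (u * b) := by group
  have h1 : n * (u * b) * (n * (u * b)) = 1 := hx' ▸ sq_conj hx2
  obtain ⟨v, hv, c, hvc⟩ := (mem_borel_iff g).1 hb'
  rw [hvc] at hx' h1
  -- the unipotent part stays positive
  obtain ⟨a, ha, d, hd', rfl⟩ := pos_split h σ hσ.map.1 upList_posRoots
    (show v ∈ UL F g D.posRoots by rwa [UL_posRoots])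
  have hnan : n * a * n⁻¹ ∈ D.posUnipotent F :=
    conj_UP_le hσ (fun r hr => hr.1.1) (fun r t hr => xG_mem_posUnipotent g hr.2 t) ha
  have hd1 : d = 1 := by
    have hB : n * (a * d * tor D A c) * n⁻¹ ∈ D.borelSubgroup F := by
      rw [show n * (a * d * tor D A c) * n⁻¹ = (a * d * tor D A c)⁻¹ * (n * n)⁻¹ by
        calc n * (a * d * tor D A c) * n⁻¹
            = (n * (a * d * tor D A c) * (n * (a * d * tor D A c))) * (a * d * tor D A c)⁻¹ *
              (n * n)⁻¹ := by group
          _ = _ := by rw [h1, one_mul]]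
      rw [← he]
      exact mul_mem (inv_mem hb') (inv_mem (tor_mem_borel g e)) |> fun hh => by rwa [hvc] at hh
    obtain ⟨c', hc'⟩ := monomial_conj_tor g hn c
    have hB' : n * d * n⁻¹ ∈ D.borelSubgroup F := by
      have : n * d * n⁻¹ = (n * a * n⁻¹)⁻¹ * (n * (a * d * tor D A c) * n⁻¹) *
          (n * tor D A c * n⁻¹)⁻¹ := by group
      rw [this, hc']
      exact mul_mem (mul_mem (inv_mem (pos_le_borel hnan)) hB) (inv_mem (tor_mem_borel g c'))
    have hN : n * d * n⁻¹ ∈ D.negUnipotent F :=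
      conj_UP_le hσ (fun r hr => hr.1.1) (fun r t hr => xG_mem_negUnipotent g hr.2 t) hd'
    have := Subgroup.mem_bot.1 ((borel_inf_negUnipotent h).le (Subgroup.mem_inf.2 ⟨hB', hN⟩))
    rwa [conj_eq_one_iff] at this
  subst hd1
  rw [mul_one] at hvc hx' h1
  set m := n * tor D A c
  set w := (tor D A c)⁻¹ * a * tor D A c with hw
  have hmw : n * (a * tor D A c) = m * w := by simp only [m, hw]; group
  have ha' : a ∈ D.posUnipotent F := UP_le (fun r t hr => xG_mem_posUnipotent g hr.1 t) ha
  have hwU : w ∈ D.posUnipotent F := by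
    have := tor_conj_posUnipotent g c⁻¹ ha'
    rwa [map_inv, inv_inv] at this
  have hmwm : m * w * m⁻¹ ∈ D.posUnipotent F := by
    rw [show m * w * m⁻¹ = n * a * n⁻¹ by simp only [m, hw]; group]
    exact hnan
  rw [hmw] at hx' h1
  obtain ⟨c', hc'⟩ := monomial_conj_tor g hn c
  obtain ⟨f, hf⟩ : m * m ∈ (tor D A).range := ⟨c' * e * c, by
    rw [map_mul, map_mul, he, ← hc']; show _ = n * tor D A c * (n * tor D A c); group⟩
  have hm2 : m * m = 1 := by
    have e1 : m * m = (m * w * m⁻¹)⁻¹ * w⁻¹ := by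
      calc m * m = (m * w * m⁻¹)⁻¹ * (m * w * (m * w)) * w⁻¹ := by group
        _ = _ := by rw [h1, mul_one]
    refine Subgroup.mem_bot.1 ((posUnipotent_inf_diagonal h).le (Subgroup.mem_inf.2 ⟨?_, ?_⟩))
    · rw [e1]; exact mul_mem (inv_mem hmwm) (inv_mem hwU)
    · rw [← hf, diagonalSubgroup_eq g]; exact ⟨f, rfl⟩
  have hminv : m⁻¹ = m := inv_eq_of_mul_eq_one_right hm2
  have hconj : m * w * m⁻¹ = w⁻¹ := by
    rw [hminv, eq_inv_iff_mul_eq_one, ← h1]; group
  -- square root in the unipotent group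
  obtain ⟨j, hj⟩ : ∃ j, Nat.card (D.posUnipotent F) = 2 * j + 1 := by
    refine Odd.exists_bit1 ?_
    rw [card_posUnipotent h]
    refine Odd.pow ?_
    rw [← Nat.not_even_iff_odd, even_iff_two_dvd]
    intro hh
    have hc : ringChar F = 2 := by
      obtain ⟨l, hp, hl⟩ := FiniteField.card F (ringChar F)
      have := Nat.Prime.dvd_of_dvd_pow Nat.prime_two (hl ▸ hh)
      exact ((Nat.prime_dvd_prime_iff_eq Nat.prime_two hp).1 this).symm
    exact h2 (by exact_mod_cast hc ▸ ringChar.Nat.cast_ringChar (R := F))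
  have hz : w ^ (j + 1) * w ^ (j + 1) = w := by
    rw [← pow_add, show j + 1 + (j + 1) = 2 * j + 1 + 1 by ring, pow_succ, ← hj]
    have := congrArg Subtype.val (pow_card_eq_one' (x := (⟨w, hwU⟩ : ↥(D.posUnipotent F))))
    rw [SubmonoidClass.coe_pow] at this
    rw [this]; simp
  have hzc : m * w ^ (j + 1) * m⁻¹ = (w ^ (j + 1))⁻¹ := by
    rw [← inv_pow, ← hconj, conj_pow]
  refine ⟨b * (w ^ (j + 1))⁻¹, mul_mem (borel_le_group g hb) (inv_mem (pow_mem
    (borel_le_group g (pos_le_borel hwU)) _)), m, mul_mem hn (tor_mem_monomial g c), ?_⟩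
  rw [show (b * (w ^ (j + 1))⁻¹)⁻¹ * (b * n * u) * (b * (w ^ (j + 1))⁻¹) =
    w ^ (j + 1) * (b⁻¹ * (b * n * u) * b) * (w ^ (j + 1))⁻¹ by group, hx']
  calc w ^ (j + 1) * (m * w) * (w ^ (j + 1))⁻¹
      = w ^ (j + 1) * (m * (w ^ (j + 1) * w ^ (j + 1))) * (w ^ (j + 1))⁻¹ := by rw [hz]
    _ = w ^ (j + 1) * (m * w ^ (j + 1) * m⁻¹) * m := by group
    _ = m := by rw [hzc]; group
where
  finite_GL' : Finite (GL D.Idx F) :=
    Finite.of_injective (fun y => (y : Matrix D.Idx D.Idx F)) fun _ _ e => Units.ext e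

/-- every involution is conjugate into the torus -/
theorem exists_toral [Fintype F] (h : Std D A) (hU : CfsgLib.KnownB.ChevField.Unimodular D)
    (hP : pairCheck D A = true) (h2 : (2 : F) ≠ 0) {x : GL D.Idx F}
    (hx : x ∈ D.group F) (hx2 : x * x = 1) :
    ∃ y ∈ D.group F, ∃ c : Fin D.rank → Fˣ, (∀ i, c i = 1 ∨ c i = -1) ∧
      y⁻¹ * x * y = tor D A c := by
  obtain ⟨y, hy, n, hn, e⟩ := exists_monomial h h2 hx hx2
  obtain ⟨σ, hσ⟩ := exists_acts h.good hn
  have hn2 : n * n = 1 := e ▸ sq_conj hx2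
  obtain ⟨z, hz, c, hc⟩ := Toral.of_conj hy e
    (monomial_toral h hU hP h2 _ hn hn2 hσ rfl)
  refine ⟨z, hz, c, fun i => ?_, hc⟩
  have h1 : tor D A (c * c) = tor D A (1 : Fin D.rank → Fˣ) := by
    rw [map_mul, map_one, ← hc]; exact sq_conj hx2
  have h3 := congrFun (CfsgLib.KnownB.ChevField.tor_eq_iff h.good hU h1) i
  rw [Pi.mul_apply, Pi.one_apply, Units.ext_iff, Units.val_mul, Units.val_one,
    mul_self_eq_one_iff] at h3
  exact h3.imp (fun e => Units.ext e) fun e => Units.ext (by rw [e, Units.val_neg, Units.val_one])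

end CfsgLib.Chev.OddInvol
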