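/-
Data for the centraliser of a toral involution: the reflection subgroup with coset representatives,
and the orbits of the Weyl group on masks.
-/
import Cfsg.Agent.Lib.Chev.OddInvol.Cent

set_option autoImplicit false

namespace CfsgLib.Chev.OddInvol

open Cfsg.Lie CfsgLib.Chev

variable (D : ChevalleyDatum) (A : Aux)

/-- a coset representative: word, parent, transported functional -/
structure SRep where
  word : List ℕ
  par : ℕ
  f : List ℤ
deriving Inhabited

/-- the mask, the generating reflections with their roots, the functionals, the levels -/
structure Sub where
  v : ℕ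
  om : List (List ℕ)
  beta : List ℕ
  phi : List (List ℤ)
  lev : List (List SRep)

/-- the value of a functional at a root -/
noncomputable def ev' (φ : List ℤ) (r : ℕ) : ℤ :=
  ((List.range D.rank).map fun m => A.a r m * φ.getD m 0).sum

/-- positive, read off the table -/
noncomputable def posB (r : ℕ) : Bool := (List.range D.rank).all fun j => decide (0 ≤ A.a r j)

namespace Sub

variable (S : Sub)

/-- the word of a generating reflection -/
def omw (j : ℕ) : List ℕ := S.om.getD j []

/-- the root of a generating reflection -/
def rt (j : ℕ) : ℕ := S.beta.getD j 0

/-- the functional of a level -/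
def fn (i : ℕ) : List ℤ := S.phi.getD i []

/-- the checks on the generating reflections -/
noncomputable def checkGen : Bool :=
  decide (S.lev.length = S.om.length) && (List.range S.om.length).all fun j =>
    (S.omw j).all (fun i => decide (i < D.rank)) &&
    decide (S.rt j < D.nroots) && posB D A (S.rt j) && pb D A S.v (S.rt j) &&
    decide (wf A (S.omw j) (S.rt j) = A.neg (S.rt j)) &&
    (List.range D.nroots).all fun r =>
      let r' := wf A (S.omw j) r
      decide (wf A (S.omw j) r' = r) && decide (pb D A S.v r' = pb D A S.v r) &&
        (!posB D A r || !pb D A S.v r || decide (r = S.rt j) || posB D A r')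

/-- the checks on the functionals -/
noncomputable def checkFn : Bool :=
  (List.range S.om.length).all fun i =>
    ((List.range D.nroots).all fun r =>
      !posB D A r || !pb D A S.v r || decide (0 ≤ ev' D A (S.fn i) r)) &&
    (List.range i).all fun j => (List.range D.rank).all fun m =>
      decide (ev' D A (S.fn i) (wf A (S.omw j) (D.simple m)) = (S.fn i).getD m 0)

/-- the checks on a level -/
noncomputable def checkLev (i : ℕ) : Bool :=
  let L := S.lev.getD i []
  L.all (fun e => match e.word with
    | [] => decide (e.f = (List.range D.rank).map fun m => (S.fn i).getD m 0)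
    | j :: t =>
      let p := L.getD e.par default
      decide (j ≤ i ∧ e.par < L.length ∧ p.word = t ∧
        0 < ev' D A p.f (S.rt j) ∧
        e.f = (List.range D.rank).map fun m => ev' D A p.f (wf A (S.omw j) (D.simple m)))) &&
  decide ((L.map SRep.f).Nodup)

/-- all checks -/
noncomputable def check : Bool :=
  S.checkGen D A && S.checkFn D A && (List.range S.om.length).all (S.checkLev D A)

/-- the check of the length generating function -/
def poly (deg : List ℕ) : Bool :=
  decide (((List.range S.om.length).map fun i =>
      (((S.lev.getD i []).map fun e => e.word.length).map pMono).foldr pAdd []).foldr pMul [1] =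
    (deg.map fun d => List.replicate d 1).foldr pMul [1])

/-- the number of normal forms -/
def size : ℕ := ((List.range S.om.length).map fun i => (S.lev.getD i []).length).prod

end Sub

/-- the action of a fundamental reflection on masks -/
noncomputable def mstep (i v : ℕ) : ℕ := if pb D A v (D.simple i) then v else v ^^^ 2 ^ i

/-- follow the table towards one of two representatives -/
noncomputable def goes (tb : List ℕ) (r₁ r₂ : ℕ) : ℕ → ℕ → ℕ
  | 0, v => v
  | k + 1, v => if v = r₁ ∨ v = r₂ then v else goes tb r₁ r₂ k (mstep D A (tb.getD v 0) v)

/-- the table reaches a representative from every nonzero mask -/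
noncomputable def orbCheck (tb : List ℕ) (r₁ r₂ k : ℕ) : Bool :=
  tb.all (fun i => decide (i < D.rank)) && decide (0 < D.rank) &&
    (List.range (2 ^ D.rank)).all fun v =>
      decide (v = 0 ∨ goes D A tb r₁ r₂ k v = r₁ ∨ goes D A tb r₁ r₂ k v = r₂)

/-- the masks sent to a representative -/
noncomputable def orbOf (tb : List ℕ) (r₁ r₂ k r : ℕ) : List ℕ :=
  (List.range (2 ^ D.rank)).filter fun v => decide (goes D A tb r₁ r₂ k v = r)

end CfsgLib.Chev.OddInvol
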