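/-
Normal forms in the stabiliser of a mask.
-/
import Cfsg.Agent.Lib.Chev.OddInvol.Data

set_option autoImplicit false

namespace CfsgLib.Chev.OddInvol

open Cfsg.Lie CfsgLib.Chev

variable {D : ChevalleyDatum} {A : Aux}

lemma ev'_sum (φ : List ℤ) (r : ℕ) :
    ev' D A φ r = ∑ m ∈ Finset.range D.rank, A.a r m * φ.getD m 0 := sum_map_range _ _

lemma posB_iff (g : Good D A) {r : ℕ} (hr : r < D.nroots) :
    posB D A r = true ↔ D.IsPosRoot r := by
  simp only [posB, List.all_eq_true, List.mem_range, decide_eq_true_eq]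
  rw [g.pos_iff r hr]
  exact ⟨fun h j => if hj : j < D.rank then h j hj else (g.a_zero r hr j (not_lt.1 hj)).ge,
    fun h j _ => h j⟩

lemma pb_neg (g : Good D A) {v r : ℕ} (hr : r < D.nroots) : pb D A v (A.neg r) = pb D A v r := by
  have e : ((List.range D.rank).map fun i => if v.testBit i then A.cart i (A.neg r) else 0).sum =
      -((List.range D.rank).map fun i => if v.testBit i then A.cart i r else 0).sum := by
    rw [sum_map_range, sum_map_range, ← Finset.sum_neg_distrib]
    refine Finset.sum_congr rfl fun i hi => ?_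
    rw [g.cart_neg i (Finset.mem_range.1 hi) r hr]
    split_ifs <;> simp
  simp only [pb, e, Int.neg_emod_two]

lemma ev'_neg (g : Good D A) (φ : List ℤ) {r : ℕ} (hr : r < D.nroots) :
    ev' D A φ (A.neg r) = -ev' D A φ r := by
  rw [ev'_sum, ev'_sum, ← Finset.sum_neg_distrib]
  exact Finset.sum_congr rfl fun m _ => by rw [g.a_neg r hr, neg_mul]

lemma ev'_rootMap (g : Good D A) {σ : ℕ → ℕ} (hσ : RootMap D A σ) (φ : List ℤ) {r : ℕ}
    (hr : r < D.nroots) :
    ev' D A φ (σ r) = ev' D A ((List.range D.rank).map fun m => ev' D A φ (σ (D.simple m))) r := by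
  rw [ev'_sum, ev'_sum]
  calc ∑ m ∈ Finset.range D.rank, A.a (σ r) m * φ.getD m 0
      = ∑ m ∈ Finset.range D.rank, ∑ k ∈ Finset.range D.rank,
          A.a r k * A.a (σ (D.simple k)) m * φ.getD m 0 := Finset.sum_congr rfl fun m hm => by
        rw [simple_eq_sum g hσ hr m (Finset.mem_range.1 hm), Finset.sum_mul]
    _ = _ := by
      rw [Finset.sum_comm]
      refine Finset.sum_congr rfl fun k hk => ?_
      rw [getD_map_range _ _ (Finset.mem_range.1 hk), ev'_sum, Finset.mul_sum]
      exact Finset.sum_congr rfl fun m _ => mul_assoc _ _ _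

lemma ev'_simple (g : Good D A) (φ : List ℤ) {m : ℕ} (hm : m < D.rank) :
    ev' D A φ (D.simple m) = φ.getD m 0 := by
  rw [ev'_sum, Finset.sum_eq_single m]
  · rw [g.a_simple m hm m hm, if_pos rfl, one_mul]
  · intro l hl hlm
    rw [g.a_simple m hm l (Finset.mem_range.1 hl), if_neg hlm, zero_mul]
  · intro h; exact absurd (Finset.mem_range.2 hm) h

namespace Sub

variable (S : Sub)

/-- a word in the generating reflections, spelled in the fundamental ones -/
def flat (w : List ℕ) : List ℕ := w.flatMap S.omw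

/-- its root map -/
noncomputable def tw (A : Aux) (w : List ℕ) : ℕ → ℕ := wf A (S.flat w)

/-- letters of the subsystem -/
def Lets (w : List ℕ) : Prop := ∀ j ∈ w, j < S.om.length

/-- the normal forms -/
def nf : ℕ → List (List ℕ)
  | 0 => [[]]
  | i + 1 => (S.lev.getD i []).flatMap fun e => (nf i).map fun u => e.word ++ u

variable {S}

lemma Lets.tail {j : ℕ} {w : List ℕ} (h : S.Lets (j :: w)) : S.Lets w :=
  fun i hi => h i (List.mem_cons_of_mem _ hi)

lemma Lets.head {j : ℕ} {w : List ℕ} (h : S.Lets (j :: w)) : j < S.om.length :=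
  h j List.mem_cons_self

lemma Lets.rev {w : List ℕ} (h : S.Lets w) : S.Lets w.reverse :=
  fun i hi => h i (List.mem_reverse.1 hi)

lemma tw_cons (j : ℕ) (w : List ℕ) (r : ℕ) : S.tw A (j :: w) r = wf A (S.omw j) (S.tw A w r) := by
  simp [tw, flat, wf_append]

lemma tw_append (u w : List ℕ) (r : ℕ) : S.tw A (u ++ w) r = S.tw A u (S.tw A w r) := by
  simp [tw, flat, wf_append]

lemma tw_single (j : ℕ) (r : ℕ) : S.tw A [j] r = wf A (S.omw j) r := by
  simp [tw, flat]

/-- the checked facts on the generators -/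
structure GenOK (S : Sub) (D : ChevalleyDatum) (A : Aux) : Prop where
  len : S.lev.length = S.om.length
  letters : ∀ j < S.om.length, Letters D (S.omw j)
  rt_pos : ∀ j < S.om.length, D.IsPosRoot (S.rt j)
  rt_pb : ∀ j < S.om.length, pb D A S.v (S.rt j) = true
  rt_neg : ∀ j < S.om.length, wf A (S.omw j) (S.rt j) = A.neg (S.rt j)
  invol : ∀ j < S.om.length, ∀ r < D.nroots, wf A (S.omw j) (wf A (S.omw j) r) = r
  pres : ∀ j < S.om.length, ∀ r < D.nroots, pb D A S.v (wf A (S.omw j) r) = pb D A S.v r
  perm : ∀ j < S.om.length, ∀ r, D.IsPosRoot r → pb D A S.v r = true → r ≠ S.rt j →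
    D.IsPosRoot (wf A (S.omw j) r)

lemma genOK_of_check (g : Good D A) (hc : S.checkGen D A = true) : GenOK S D A := by
  simp only [checkGen, Bool.and_eq_true, List.all_eq_true, List.mem_range, decide_eq_true_eq,
    Bool.or_eq_true, Bool.not_eq_true'] at hc
  obtain ⟨hl, hc⟩ := hc
  refine ⟨hl, fun j hj => (hc j hj).1.1.1.1.1,
    fun j hj => (posB_iff g (hc j hj).1.1.1.1.2).1 (hc j hj).1.1.1.2,
    fun j hj => (hc j hj).1.1.2, fun j hj => (hc j hj).1.2,
    fun j hj r hr => ((hc j hj).2 r hr).1.1, fun j hj r hr => ((hc j hj).2 r hr).1.2,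
    fun j hj r hr hp hne => ?_⟩
  have hlt := wf_lt g (hc j hj).1.1.1.1.1 hr.1
  rcases ((hc j hj).2 r hr.1).2 with ((h | h) | h) | h
  · rw [(posB_iff g hr.1).2 hr] at h; exact absurd h (by simp)
  · rw [hp] at h; exact absurd h (by simp)
  · exact absurd h hne
  · exact (posB_iff g hlt).1 h

variable {g : Good D A} (hS : GenOK S D A)

include hS in
lemma flat_letters : ∀ {w : List ℕ}, S.Lets w → Letters D (S.flat w)
  | [], _ => fun _ h => absurd h (by simp [flat])
  | j :: w, h => by
    rw [flat, List.flatMap_cons]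
    exact (hS.letters j h.head).append (flat_letters h.tail)

include hS g in
lemma tw_lt {w : List ℕ} (hw : S.Lets w) {r : ℕ} (hr : r < D.nroots) : S.tw A w r < D.nroots :=
  wf_lt g (flat_letters hS hw) hr

include hS g in
lemma tw_rootMap {w : List ℕ} (hw : S.Lets w) : RootMap D A (S.tw A w) :=
  wf_rootMap g (flat_letters hS hw)

include hS g in
lemma tw_rev_left : ∀ {w : List ℕ}, S.Lets w → ∀ {r : ℕ}, r < D.nroots →
    S.tw A w.reverse (S.tw A w r) = r
  | [], _, _, _ => rfl
  | j :: w, h, r, hr => by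
    rw [List.reverse_cons, tw_append, tw_single, tw_cons,
      hS.invol j h.head _ (tw_lt (g := g) hS h.tail hr), tw_rev_left h.tail hr]

include hS g in
lemma tw_rev_right {w : List ℕ} (hw : S.Lets w) {r : ℕ} (hr : r < D.nroots) :
    S.tw A w (S.tw A w.reverse r) = r := by
  simpa using tw_rev_left (g := g) hS hw.rev hr

include hS g in
lemma pb_tw : ∀ {w : List ℕ}, S.Lets w → ∀ {r : ℕ}, r < D.nroots →
    pb D A S.v (S.tw A w r) = pb D A S.v r
  | [], _, _, _ => rfl
  | j :: w, h, r, hr => by
    rw [tw_cons, hS.pres j h.head _ (tw_lt (g := g) hS h.tail hr), pb_tw h.tail hr]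

include hS g in
lemma invP_cons {w : List ℕ} (hw : S.Lets w) {j : ℕ} (hj : j < S.om.length)
    (hq : D.IsPosRoot (S.tw A w.reverse (S.rt j))) :
    invP D A S.v (S.tw A (j :: w)) = invP D A S.v (S.tw A w) + 1 := by
  classical
  set q := S.tw A w.reverse (S.rt j) with hqdef
  have hb := (hS.rt_pos j hj).1
  have hqp : pb D A S.v q = true := by
    rw [hqdef, pb_tw (g := g) hS hw.rev hb]; exact hS.rt_pb j hj
  have e : ((posP D A S.v).filter fun r => ¬ D.IsPosRoot (S.tw A (j :: w) r)) =
      insert q ((posP D A S.v).filter fun r => ¬ D.IsPosRoot (S.tw A w r)) := by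
    ext r
    simp only [posP, Finset.mem_filter, List.mem_toFinset, posRoots_mem, Finset.mem_insert, tw_cons]
    constructor
    · rintro ⟨⟨hr, hrp⟩, hn⟩
      by_cases hpos : D.IsPosRoot (S.tw A w r)
      · left
        have hs : S.tw A w r = S.rt j := by
          by_contra hne
          exact hn (hS.perm j hj _ hpos (by rw [pb_tw (g := g) hS hw hr.1]; exact hrp) hne)
        rw [← tw_rev_left (g := g) hS hw hr.1, hs]
      · exact Or.inr ⟨⟨hr, hrp⟩, hpos⟩
    · rintro (rfl | ⟨⟨hr, hrp⟩, hn⟩)
      · refine ⟨⟨hq, hqp⟩, ?_⟩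
        rw [tw_rev_right (g := g) hS hw hb, hS.rt_neg j hj]
        exact not_pos_neg g (hS.rt_pos j hj)
      · refine ⟨⟨hr, hrp⟩, fun hp => ?_⟩
        have hlt := tw_lt (g := g) hS hw hr.1
        by_cases hs : wf A (S.omw j) (S.tw A w r) = S.rt j
        · have h2 : S.tw A w r = A.neg (S.rt j) := by
            rw [← hS.rt_neg j hj, ← hs, hS.invol j hj _ hlt]
          have h3 : S.tw A w r = S.tw A w (A.neg q) := by
            rw [h2, (tw_rootMap (g := g) hS hw).map_neg g hq.1, hqdef,
              tw_rev_right (g := g) hS hw hb]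
          have h4 := congrArg (S.tw A w.reverse) h3
          rw [tw_rev_left (g := g) hS hw hr.1,
            tw_rev_left (g := g) hS hw (g.neg_lt _ hq.1)] at h4
          exact not_pos_neg g hq (h4 ▸ hr)
        · have := hS.perm j hj _ hp
            (by rw [hS.pres j hj _ hlt, pb_tw (g := g) hS hw hr.1]; exact hrp) hs
          rw [hS.invol j hj _ hlt] at this
          exact hn this
  rw [invP, e, Finset.card_insert_of_notMem, invP]
  simp only [Finset.mem_filter, not_and, not_not]
  intro _
  rw [tw_rev_right (g := g) hS hw hb]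
  exact hS.rt_pos j hj

/-- the checked facts on the functionals and levels -/
structure LevOK (S : Sub) (D : ChevalleyDatum) (A : Aux) (i : ℕ) : Prop where
  nonneg : ∀ r, D.IsPosRoot r → pb D A S.v r = true → 0 ≤ ev' D A (S.fn i) r
  fix : ∀ j < i, ∀ m < D.rank,
    ev' D A (S.fn i) (wf A (S.omw j) (D.simple m)) = (S.fn i).getD m 0
  root : ∀ e ∈ S.lev.getD i [], e.word = [] →
    e.f = (List.range D.rank).map fun m => (S.fn i).getD m 0
  step : ∀ e ∈ S.lev.getD i [], ∀ (j : ℕ) (t : List ℕ), e.word = j :: t →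
    ∃ p ∈ S.lev.getD i [], p.word = t ∧ j ≤ i ∧ 0 < ev' D A p.f (S.rt j) ∧
      e.f = (List.range D.rank).map fun m => ev' D A p.f (wf A (S.omw j) (D.simple m))
  nodup : ((S.lev.getD i []).map SRep.f).Nodup

lemma levOK_of_check (g : Good D A) (hc : S.check D A = true) {i : ℕ} (hi : i < S.om.length) :
    LevOK S D A i := by
  simp only [check, checkFn, checkLev, Bool.and_eq_true, List.all_eq_true, List.mem_range,
    decide_eq_true_eq, Bool.or_eq_true, Bool.not_eq_true'] at hc
  obtain ⟨⟨-, hf⟩, hl⟩ := hc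
  obtain ⟨h1, h2⟩ := hf i hi
  obtain ⟨h3, h4⟩ := hl i hi
  refine ⟨fun r hr hp => ?_, h2, fun e he hw => ?_, fun e he j t hw => ?_, h4⟩
  · rcases h1 r hr.1 with (h | h) | h
    · rw [(posB_iff g hr.1).2 hr] at h; exact absurd h (by simp)
    · rw [hp] at h; exact absurd h (by simp)
    · exact h
  · have := h3 e he
    simp only [hw, decide_eq_true_eq] at this
    exact this
  · have := h3 e he
    simp only [hw, decide_eq_true_eq] at this
    obtain ⟨a, b, c, d, e1⟩ := this
    refine ⟨(S.lev.getD i []).getD e.par default, ?_, c, a, d, e1⟩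
    rw [List.getD_eq_getElem _ _ b]
    exact List.getElem_mem b

variable {i : ℕ}

lemma LevOK.word_le (h : LevOK S D A i) : ∀ {w : List ℕ}, ∀ e ∈ S.lev.getD i [], e.word = w →
    ∀ j ∈ w, j ≤ i
  | [], _, _, _ => fun _ hj => absurd hj List.not_mem_nil
  | j :: t, e, he, hw => by
    obtain ⟨p, hp, hpt, hj, -⟩ := h.step e he j t hw
    exact List.forall_mem_cons.2 ⟨hj, h.word_le p hp hpt⟩

include hS g in
lemma LevOK.f_eq (h : LevOK S D A i) (hi : i < S.om.length) : ∀ {w : List ℕ}, ∀ e ∈ S.lev.getD i [], e.word = w →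
    ∀ {r : ℕ}, r < D.nroots → ev' D A (S.fn i) (S.tw A w.reverse r) = ev' D A e.f r
  | [], e, he, hw, r, hr => by
    rw [h.root e he hw]
    simp only [ev'_sum]
    refine Finset.sum_congr rfl fun m hm => ?_
    rw [getD_map_range _ _ (Finset.mem_range.1 hm)]
    rfl
  | j :: t, e, he, hw, r, hr => by
    obtain ⟨p, hp, hpt, hji, -, hf⟩ := h.step e he j t hw
    have hj : j < S.om.length := lt_of_le_of_lt hji hi
    rw [List.reverse_cons, tw_append, tw_single,
      h.f_eq hi p hp hpt (wf_lt g (hS.letters j hj) hr), hf,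
      ← ev'_rootMap g (wf_rootMap g (hS.letters j hj)) _ hr]

include hS g in
lemma fn_inv (h : LevOK S D A i) : ∀ {u : List ℕ}, S.Lets u → (∀ j ∈ u, j < i) →
    ∀ {r : ℕ}, r < D.nroots → ev' D A (S.fn i) (S.tw A u r) = ev' D A (S.fn i) r
  | [], _, _, _, _ => rfl
  | j :: u, hu, hlt, r, hr => by
    have hlt' := tw_lt (g := g) hS hu.tail hr
    rw [tw_cons, ev'_rootMap g (wf_rootMap g (hS.letters j hu.head)) _ hlt',
      ← fn_inv h hu.tail (fun a ha => hlt a (List.mem_cons_of_mem _ ha)) hr]
    simp only [ev'_sum]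
    refine Finset.sum_congr rfl fun m hm => ?_
    rw [getD_map_range _ _ (Finset.mem_range.1 hm), ← ev'_sum,
      h.fix j (hlt j List.mem_cons_self) m (Finset.mem_range.1 hm)]

lemma nf_bound (g : Good D A) (hc : S.check D A = true) : ∀ {k : ℕ}, k ≤ S.om.length →
    ∀ w ∈ S.nf k, ∀ j ∈ w, j < k
  | 0, _, w, hw => by simp [nf] at hw; subst hw; exact fun _ h => absurd h List.not_mem_nil
  | k + 1, hk, w, hw => by
    simp only [nf, List.mem_flatMap, List.mem_map] at hw
    obtain ⟨e, he, u, hu, rfl⟩ := hw
    exact List.forall_mem_append.2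
      ⟨fun j hj => Nat.lt_succ_of_le ((levOK_of_check g hc (by omega)).word_le e he rfl j hj),
        fun j hj => Nat.lt_succ_of_lt (nf_bound g hc (by omega) u hu j hj)⟩

lemma nf_lets (g : Good D A) (hc : S.check D A = true) {k : ℕ} (hk : k ≤ S.om.length)
    {w : List ℕ} (hw : w ∈ S.nf k) : S.Lets w :=
  fun j hj => lt_of_lt_of_le (nf_bound g hc hk w hw j hj) hk

include hS g in
lemma nf_inv (hc : S.check D A = true) : ∀ {k : ℕ}, k ≤ S.om.length →
    ∀ w ∈ S.nf k, invP D A S.v (S.tw A w) = w.length
  | 0, _, w, hw => by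
    simp only [nf, List.mem_singleton] at hw
    subst hw
    rw [List.length_nil, invP, Finset.card_eq_zero, Finset.filter_eq_empty_iff]
    intro r hr
    simp only [posP, Finset.mem_filter, List.mem_toFinset, posRoots_mem] at hr
    simpa [tw, flat, wf] using hr.1
  | k + 1, hk, w, hw => by
    simp only [nf, List.mem_flatMap, List.mem_map] at hw
    obtain ⟨e, he, u, hu, rfl⟩ := hw
    have hk' : k < S.om.length := by omega
    have hL := levOK_of_check g hc hk'
    have hlu := nf_lets g hc hk'.le hu
    have key : ∀ t : List ℕ, (∃ p ∈ S.lev.getD k [], p.word = t) →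
        invP D A S.v (S.tw A (t ++ u)) = t.length + u.length := by
      intro t
      induction t with
      | nil => intro _; simpa using nf_inv hc hk'.le u hu
      | cons j t ih =>
        rintro ⟨p, hp, hpw⟩
        obtain ⟨q, hq, hqw, hjk, hpos, -⟩ := hL.step p hp j t hpw
        have hj : j < S.om.length := by omega
        have hlt : S.Lets t := fun a ha => lt_of_le_of_lt (hL.word_le q hq hqw a ha) hk'
        have hb := (hS.rt_pos j hj).1
        have hltu : S.Lets (t ++ u) := List.forall_mem_append.2 ⟨hlt, hlu⟩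
        have hqlt := tw_lt (g := g) hS hltu.rev hb
        have h1 : D.IsPosRoot (S.tw A (t ++ u).reverse (S.rt j)) := by
          rcases pos_or_pos_neg g hqlt with h4 | h4
          · exact h4
          · exfalso
            have h5 := hL.nonneg _ h4 (by
              rw [pb_neg g hqlt, pb_tw (g := g) hS hltu.rev hb]; exact hS.rt_pb j hj)
            rw [ev'_neg g _ hqlt, List.reverse_append, tw_append,
              fn_inv (g := g) hS hL hlu.rev
                (fun a ha => nf_bound g hc hk'.le u hu a (List.mem_reverse.1 ha))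
                (tw_lt (g := g) hS hlt.rev hb),
              hL.f_eq (g := g) hS hk' q hq hqw hb] at h5
            omega
        rw [List.cons_append, invP_cons (g := g) hS hltu hj h1, ih ⟨q, hq, hqw⟩, List.length_cons]
        omega
    rw [key e.word ⟨e, he, rfl⟩, List.length_append]

include hS g in
lemma nf_val (hc : S.check D A = true) {k : ℕ} (hk : k < S.om.length) {e : SRep}
    (he : e ∈ S.lev.getD k []) {u : List ℕ} (hu : u ∈ S.nf k) :
    e.f = (List.range D.rank).map fun m =>
      ev' D A (S.fn k) (S.tw A (e.word ++ u).reverse (D.simple m)) := by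
  have hL := levOK_of_check g hc hk
  have hlu := nf_lets g hc hk.le hu
  have hle : S.Lets e.word := fun a ha => lt_of_le_of_lt (hL.word_le e he rfl a ha) hk
  have hflen : ∀ m < D.rank, ev' D A (S.fn k) (S.tw A (e.word ++ u).reverse (D.simple m)) =
      e.f.getD m 0 := by
    intro m hm
    rw [List.reverse_append, tw_append, fn_inv (g := g) hS hL hlu.rev
      (fun a ha => nf_bound g hc hk.le u hu a (List.mem_reverse.1 ha))
      (tw_lt (g := g) hS hle.rev (g.simple_lt m hm)),
      hL.f_eq (g := g) hS hk e he rfl (g.simple_lt m hm), ev'_simple g _ hm]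
  rw [List.map_congr_left fun m hm => hflen m (List.mem_range.1 hm)]
  cases hw : e.word with
  | nil =>
    rw [hL.root e he hw]
    exact List.map_congr_left fun m hm => by rw [getD_map_range _ _ (List.mem_range.1 hm)]
  | cons j t =>
    obtain ⟨p, -, -, -, -, hf⟩ := hL.step e he j t hw
    rw [hf]
    exact List.map_congr_left fun m hm => by rw [getD_map_range _ _ (List.mem_range.1 hm)]

include hS g in
lemma nf_inj (hc : S.check D A = true) : ∀ {k : ℕ}, k ≤ S.om.length →
    ∀ w ∈ S.nf k, ∀ w' ∈ S.nf k, SameOn D (S.tw A w) (S.tw A w') → w = w'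
  | 0, _, w, hw, w', hw', _ => by simp [nf] at hw hw'; rw [hw, hw']
  | k + 1, hk, w, hw, w', hw', hs => by
    simp only [nf, List.mem_flatMap, List.mem_map] at hw hw'
    obtain ⟨e, he, u, hu, rfl⟩ := hw
    obtain ⟨e', he', u', hu', rfl⟩ := hw'
    have hk' : k < S.om.length := by omega
    have hL := levOK_of_check g hc hk'
    have hlu := nf_lets g hc hk'.le hu
    have hlu' := nf_lets g hc hk'.le hu'
    have hle : S.Lets e.word := fun a ha => lt_of_le_of_lt (hL.word_le e he rfl a ha) hk'
    have hle' : S.Lets e'.word := fun a ha => lt_of_le_of_lt (hL.word_le e' he' rfl a ha) hk'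
    have hrev : SameOn D (S.tw A (e.word ++ u).reverse) (S.tw A (e'.word ++ u').reverse) := by
      intro r hr
      have hb : S.Lets (e.word ++ u) := List.forall_mem_append.2 ⟨hle, hlu⟩
      have hb' : S.Lets (e'.word ++ u') := List.forall_mem_append.2 ⟨hle', hlu'⟩
      have hsr := tw_lt (g := g) hS hb'.rev hr
      have h1 := hs _ hsr
      rw [tw_rev_right (g := g) hS hb' hr] at h1
      have h2 := congrArg (S.tw A (e.word ++ u).reverse) h1
      rw [tw_rev_left (g := g) hS hb hsr] at h2
      exact h2.symm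
    have hf : e.f = e'.f := by
      rw [nf_val (g := g) hS hc hk' he hu, nf_val (g := g) hS hc hk' he' hu']
      exact List.map_congr_left fun m hm => by rw [hrev _ (g.simple_lt m (List.mem_range.1 hm))]
    have hee : e = e' := List.inj_on_of_nodup_map hL.nodup he he' hf
    subst hee
    have hsu : SameOn D (S.tw A u) (S.tw A u') := by
      intro r hr
      have h4 := hs r hr
      rw [tw_append, tw_append] at h4
      have h5 := congrArg (S.tw A e.word.reverse) h4
      rwa [tw_rev_left (g := g) hS hle (tw_lt (g := g) hS hlu hr),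
        tw_rev_left (g := g) hS hle (tw_lt (g := g) hS hlu' hr)] at h5
    rw [nf_inj hc hk'.le u hu u' hu' hsu]

include hS g in
lemma nf_nodup (hc : S.check D A = true) : ∀ {k : ℕ}, k ≤ S.om.length → (S.nf k).Nodup
  | 0, _ => List.nodup_singleton _
  | k + 1, hk => by
    have hk' : k < S.om.length := by omega
    have hL := levOK_of_check g hc hk'
    simp only [nf]
    rw [List.nodup_flatMap]
    refine ⟨fun e _ => (nf_nodup hc hk'.le).map fun a b h => List.append_cancel_left h, ?_⟩
    refine (List.pairwise_map.1 hL.nodup).imp_of_mem fun {e e'} he he' hne => ?_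
    rintro x hx hx'
    obtain ⟨u, hu, rfl⟩ := List.mem_map.1 hx
    obtain ⟨u', hu', heq⟩ := List.mem_map.1 hx'
    apply hne
    rw [nf_val (g := g) hS hc hk' he hu, ← heq, ← nf_val (g := g) hS hc hk' he' hu']

lemma nf_sum (q : ℕ) : ∀ k : ℕ, ((S.nf k).map fun w => q ^ w.length).sum =
    ((List.range k).map fun i => ((S.lev.getD i []).map fun e => q ^ e.word.length).sum).prod
  | 0 => by simp [nf]
  | k + 1 => by
    rw [List.range_succ, List.map_append, List.prod_append, List.map_singleton, List.prod_singleton,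
      ← nf_sum q k, nf]
    induction S.lev.getD k [] with
    | nil => simp
    | cons e L ih =>
      rw [List.flatMap_cons, List.map_append, List.sum_append, ih, List.map_cons, List.sum_cons,
        mul_add]
      congr 1
      rw [List.map_map, ← List.sum_map_mul_right]
      refine congrArg List.sum (List.map_congr_left fun u _ => ?_)
      simp [pow_add, mul_comm]

lemma nf_length : ∀ k : ℕ,
    (S.nf k).length = ((List.range k).map fun i => (S.lev.getD i []).length).prod := by
  intro k
  have := nf_sum (S := S) 1 k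
  simpa using this

end Sub

end CfsgLib.Chev.OddInvol
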