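/-
Two classes of involutions and their centralisers, from checked data.
-/
import Cfsg.Agent.Lib.Chev.OddInvol.NF
import Cfsg.Agent.Lib.Chev.OddInvol.Toral

set_option autoImplicit false

namespace CfsgLib.Chev.OddInvol

open Cfsg.Lie Matrix CfsgLib.Chev
open CfsgLib.KnownB.ChevField (Unimodular tor_eq_iff chi_inj)

variable {D : ChevalleyDatum} {A : Aux} {F : Type*} [Field F]

lemma one_ne_neg (h2 : (2 : F) ≠ 0) : (1 : Fˣ) ≠ -1 := fun e => h2 (by
  have := congrArg Units.val e
  rw [Units.val_neg, Units.val_one] at this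
  linear_combination this)

lemma sgn_inj (h2 : (2 : F) ≠ 0) {n v v' : ℕ} (hv : v < 2 ^ n) (hv' : v' < 2 ^ n)
    (h : sgn F n v = sgn F n v') : v = v' := by
  refine Nat.eq_of_testBit_eq fun i => ?_
  by_cases hi : i < n
  · have := congrFun h ⟨i, hi⟩
    simp only [sgn] at this
    revert this
    cases v.testBit i <;> cases v'.testBit i <;> simp [one_ne_neg h2, (one_ne_neg h2).symm]
  · have hp : 2 ^ n ≤ 2 ^ i := Nat.pow_le_pow_right (by norm_num) (by omega)
    rw [Nat.testBit_lt_two_pow (lt_of_lt_of_le hv hp),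
      Nat.testBit_lt_two_pow (lt_of_lt_of_le hv' hp)]

lemma exists_sgn {n : ℕ} (c : Fin n → Fˣ) (h2 : (2 : F) ≠ 0) (hc : ∀ i, c i = 1 ∨ c i = -1) :
    ∃ v < 2 ^ n, c = sgn F n v := by
  classical
  set s : Finset ℕ := (Finset.range n).filter fun i => ∃ h : i < n, c ⟨i, h⟩ = -1
  have hbit : ∀ i, (∑ j ∈ s, 2 ^ j).testBit i = decide (i ∈ s) := fun i =>
    Bool.eq_iff_iff.2 (by
      rw [decide_eq_true_eq]
      conv_rhs => rw [← Finset.toFinset_bitIndices_twoPowSum (s := s)]
      rw [List.mem_toFinset, Nat.mem_bitIndices])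
  refine ⟨∑ j ∈ s, 2 ^ j, ?_, funext fun i => ?_⟩
  · exact Nat.geomSum_lt le_rfl fun j hj => Finset.mem_range.1 (Finset.mem_filter.1 hj).1
  · simp only [sgn, hbit]
    by_cases h : c i = -1
    · rw [h, if_pos]
      simp [s, i.isLt, h]
    · rw [if_neg]
      · exact (hc i).resolve_right h
      · simp [s, i.isLt, h]

/-- the conjugate of a toral involution by a fundamental element -/
lemma conj_sgn (g : Good D A) {i : ℕ} (hi : i < D.rank) (v : ℕ) :
    nS F g i * tor D A (sgn F D.rank v) * (nS F g i)⁻¹ =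
      tor D A (sgn F D.rank (mstep D A i v)) := by
  rw [nS_conj_tor g hi]
  congr 1
  have hp : ∏ j, sgn F D.rank v j ^ (-A.cart j.val (D.simple i)) =
      (chi D A (sgn F D.rank v) (D.simple i))⁻¹ := by
    simp [chi, Finset.prod_inv_distrib]
  rw [hp, chi_sgn]
  funext k
  simp only [mstep, Pi.mul_apply]
  by_cases hk : k = ⟨i, hi⟩
  · subst hk
    cases hpb : pb D A v (D.simple i) <;> cases hb : v.testBit i <;>
      simp [sgn, hb, hpb, Nat.testBit_xor, Nat.testBit_two_pow]
  · have hk' : i ≠ k.val := fun e => hk (Fin.ext e.symm)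
    cases hpb : pb D A v (D.simple i) <;>
      simp [sgn, hk, hpb, Nat.testBit_xor, Nat.testBit_two_pow, hk']

lemma goes_conj (g : Good D A) {tb : List ℕ} (htb : ∀ i ∈ tb, i < D.rank) (hr : 0 < D.rank)
    (r₁ r₂ : ℕ) : ∀ k v, ∃ w, Letters D w ∧
      nW F g w * tor D A (sgn F D.rank v) * (nW F g w)⁻¹ =
        tor D A (sgn F D.rank (goes D A tb r₁ r₂ k v))
  | 0, v => ⟨[], fun _ h => absurd h List.not_mem_nil, by simp [nW, goes]⟩
  | k + 1, v => by
    by_cases hv : v = r₁ ∨ v = r₂
    · exact ⟨[], fun _ h => absurd h List.not_mem_nil, by simp [nW, goes, hv]⟩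
    set i := tb.getD v 0
    have hi : i < D.rank := by
      by_cases h : v < tb.length
      · exact htb _ (by simp only [i, List.getD_eq_getElem _ _ h]; exact List.getElem_mem h)
      · simp only [i, List.getD_eq_default _ _ (not_lt.1 h)]; exact hr
    obtain ⟨w, hw, e⟩ := goes_conj g htb hr r₁ r₂ k (mstep D A i v)
    refine ⟨w ++ [i], hw.append (by simp [Letters, hi]), ?_⟩
    have e2 : nW F g (w ++ [i]) = nW F g w * nS F g i := by simp [nW]
    rw [e2, goes, if_neg hv, ← e, ← conj_sgn g hi]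
    group

/-- the element of the Weyl group of a word -/
noncomputable def toW (g : Good D A) {w : List ℕ} (h : Letters D w) : Weyl g :=
  ((exists_fin_word h).choose.map (wS g)).prod

lemma toW_apply (g : Good D A) {w : List ℕ} (h : Letters D w) (r : Fin D.nroots) :
    ((toW g h).1 r).val = wf A w r := by
  rw [toW, wS_prod_apply]
  show wf A _ _ = _
  rw [(exists_fin_word h).choose_spec]

namespace Sub

variable {S : Sub}

/-- the stabiliser consists of the normal forms -/
theorem stab_sum (h : Std D A) (hU : Unimodular D) (h2 : (2 : F) ≠ 0)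
    (hc : S.check D A = true) {lv : List (List Rep)} (hw : checkWeyl D A lv = true)
    {L : List ℕ} (hL : ∀ v ∈ L, v < 2 ^ D.rank ∧ ∃ w, Letters D w ∧
      nW F h.good w * tor D A (sgn F D.rank v) * (nW F h.good w)⁻¹ =
        tor D A (sgn F D.rank S.v)) (hnd : L.Nodup)
    (hsize : S.size * L.length = ((List.range D.rank).map fun i => (lv.getD i []).length).prod)
    (q : ℕ) :
    ∑ w ∈ stab h.good S.v, q ^ invP D A S.v (rmap w) =
      ((List.range S.om.length).map fun i =>
        ((S.lev.getD i []).map fun e => q ^ e.word.length).sum).prod := by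
  classical
  have g := h.good
  have hS := genOK_of_check g (by simp only [check, Bool.and_eq_true] at hc; exact hc.1.1)
  have hn := fun (w : List ℕ) (hw : w ∈ S.nf S.om.length) =>
    flat_letters hS (nf_lets g hc le_rfl hw)
  let φ : ∀ w ∈ (S.nf S.om.length).toFinset, Weyl g := fun w hw =>
    toW g (hn w (List.mem_toFinset.1 hw))
  have happ : ∀ w hw r, r < D.nroots → rmap (φ w hw) r = S.tw A w r := fun w hw r hr => by
    rw [rmap, dif_pos hr, toW_apply]; rfl
  have hmem : ∀ w hw, φ w hw ∈ stab g S.v := fun w hw => by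
    refine Finset.mem_filter.2 ⟨Finset.mem_univ _, fun r => ?_⟩
    have := happ w hw r r.isLt
    rw [rmap, dif_pos r.isLt] at this
    rw [show (((φ w hw).1 r : Fin D.nroots) : ℕ) = S.tw A w r from this]
    exact pb_tw (g := g) hS (nf_lets g hc le_rfl (List.mem_toFinset.1 hw)) r.isLt
  have hinj : ∀ a ha b hb, φ a ha = φ b hb → a = b := fun a ha b hb e =>
    nf_inj (g := g) hS hc le_rfl a (List.mem_toFinset.1 ha) b (List.mem_toFinset.1 hb)
      fun r hr => by rw [← happ a ha r hr, e, happ b hb r hr]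
  -- one coset for every mask of the orbit
  choose wv hwv hconj using fun x : {v // v ∈ L.toFinset} => (hL x.1 (List.mem_toFinset.1 x.2)).2
  let ψ : ↥(stab g S.v) × {v // v ∈ L.toFinset} → Weyl g := fun p => p.1.1 * toW g (hwv p.2)
  have hψ : Function.Injective ψ := by
    rintro ⟨⟨u, hu⟩, x⟩ ⟨⟨u', hu'⟩, x'⟩ e
    have key : ∀ (u : Weyl g), u ∈ stab g S.v → ∀ (x : {v // v ∈ L.toFinset}) (r : Fin D.nroots),
        pb D A S.v ((u * toW g (hwv x)).1 r).val = pb D A x.1 r.val := by
      intro u hu x r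
      rw [Subgroup.coe_mul, Equiv.Perm.mul_apply, (Finset.mem_filter.1 hu).2]
      rw [toW_apply]
      exact pb_of_chi h2 (chi_conj h (nW_acts g (hwv x)) (hconj x) r.isLt)
    have hx : x = x' := by
      refine Subtype.ext (sgn_inj h2 (hL _ (List.mem_toFinset.1 x.2)).1
        (hL _ (List.mem_toFinset.1 x'.2)).1 (chi_inj g hU (K := F) fun s hs => ?_))
      have h1 := key u hu x ⟨s, hs⟩
      rw [show u * toW g (hwv x) = u' * toW g (hwv x') from e, key u' hu' x' ⟨s, hs⟩] at h1
      rw [chi_sgn, chi_sgn]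
      simp only [] at h1
      rw [h1]
    subst hx
    obtain rfl := mul_right_cancel (show u * toW g (hwv x) = u' * toW g (hwv x) from e)
    rfl
  have hle : (stab g S.v).card * L.length ≤ Nat.card (Weyl g) := by
    have := Nat.card_le_card_of_injective ψ hψ
    rwa [Nat.card_prod, Nat.card_eq_finsetCard, Nat.card_eq_finsetCard,
      List.toFinset_card_of_nodup hnd] at this
  have himg : (S.nf S.om.length).toFinset.attach.image (fun x => φ x.1 x.2) = stab g S.v := by
    refine Finset.eq_of_subset_of_card_le (fun y hy => ?_) ?_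
    · obtain ⟨x, -, rfl⟩ := Finset.mem_image.1 hy
      exact hmem x.1 x.2
    rw [Finset.card_image_of_injective _ fun a b e => Subtype.ext (hinj _ a.2 _ b.2 e),
      Finset.card_attach, List.toFinset_card_of_nodup (nf_nodup (g := g) hS hc le_rfl), nf_length]
    rw [weyl_card g hw, ← hsize] at hle
    rcases Nat.eq_zero_or_pos L.length with h0 | h0
    · exfalso
      rw [h0, mul_zero, ← weyl_card g hw] at hsize
      exact Nat.card_pos.ne' hsize.symm
    · exact Nat.le_of_mul_le_mul_right hle h0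
  rw [← himg, Finset.sum_image fun a _ b _ e => Subtype.ext (hinj _ a.2 _ b.2 e),
    ← nf_sum q S.om.length, ← List.sum_toFinset _ (nf_nodup (g := g) hS hc le_rfl),
    ← Finset.sum_attach (S.nf S.om.length).toFinset fun w => q ^ w.length]
  refine Finset.sum_congr rfl fun x _ => ?_
  rw [invP_congr (τ := S.tw A x.1) (fun r hr => happ x.1 x.2 r hr),
    nf_inv (g := g) hS hc le_rfl x.1 (List.mem_toFinset.1 x.2)]

end Sub

/-- the data of one class -/
structure ClassOK (D : ChevalleyDatum) (A : Aux) (S : Sub) (lv : List (List Rep)) (L : List ℕ)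
    (deg : List ℕ) (N : ℕ) : Prop where
  check : S.check D A = true
  size : S.size * L.length = ((List.range D.rank).map fun i => (lv.getD i []).length).prod
  npos : ((List.range D.nroots).filter fun r => posB D A r && pb D A S.v r).length = N
  poly : S.poly deg = true
  len : deg.length = D.rank

/-- the order of a centraliser -/
theorem card_class [Fintype F] (h : Std D A) (hU : Unimodular D) (h2 : (2 : F) ≠ 0)
    {lv : List (List Rep)} (hw : checkWeyl D A lv = true) {S : Sub} {L deg : List ℕ} {N : ℕ}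
    (hS : ClassOK D A S lv L deg N)
    (hL : ∀ v ∈ L, v < 2 ^ D.rank ∧ ∃ w, Letters D w ∧
      nW F h.good w * tor D A (sgn F D.rank v) * (nW F h.good w)⁻¹ =
        tor D A (sgn F D.rank S.v)) (hnd : L.Nodup) :
    Nat.card {y : GL D.Idx F // y ∈ D.group F ∧
        y * tor D A (sgn F D.rank S.v) = tor D A (sgn F D.rank S.v) * y} =
      Fintype.card F ^ N * (deg.map fun d => Fintype.card F ^ d - 1).prod := by
  classical
  set q := Fintype.card F
  rw [card_cent h S.v h2, Sub.stab_sum h hU h2 hS.check hw hL hnd hS.size q]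
  have hN : (posP D A S.v).card = N := by
    rw [← hS.npos, ← List.toFinset_card_of_nodup (List.Nodup.filter _ List.nodup_range)]
    congr 1
    ext r
    simp only [posP, Finset.mem_filter, List.mem_toFinset, posRoots_mem, List.mem_filter,
      List.mem_range, Bool.and_eq_true]
    exact ⟨fun hh => ⟨hh.1.1, (posB_iff h.good hh.1.1).2 hh.1, hh.2⟩,
      fun hh => ⟨(posB_iff h.good hh.1).1 hh.2.1, hh.2.2⟩⟩
  have hT : Nat.card (D.diagonalSubgroup F) = (q - 1) ^ D.rank := by
    rw [diagonalSubgroup_eq h.good, Nat.card_congr (MonoidHom.ofInjective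
      (fun c d e => tor_eq_iff h.good hU e)).symm.toEquiv, Nat.card_fun, Nat.card_units,
      Nat.card_eq_fintype_card (α := F), Nat.card_eq_fintype_card (α := Fin D.rank),
      Fintype.card_fin]
  have hpoly : ((List.range S.om.length).map fun i =>
      ((S.lev.getD i []).map fun e => q ^ e.word.length).sum).prod =
      (deg.map fun d => pEval q (List.replicate d 1)).prod := by
    have hp := hS.poly
    simp only [Sub.poly, decide_eq_true_eq] at hp
    have h2 := congrArg (pEval q) hp
    rw [pEval_prod, pEval_prod, List.map_map, List.map_map] at h2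
    refine Eq.trans (congrArg List.prod (List.map_congr_left fun i _ => ?_)) h2
    simp only [Function.comp_apply]
    rw [pEval_counts, List.map_map]
    rfl
  rw [hN, hT, hpoly, ← prod_map_pred_mul (Fintype.card_pos (α := F)) deg, hS.len]
  ring

/-- two classes of involutions -/
theorem two_classes [Fintype F] (h : Std D A) (hU : Unimodular D) (hP : pairCheck D A = true)
    (h2 : (2 : F) ≠ 0) {lv : List (List Rep)} (hw : checkWeyl D A lv = true)
    {tb : List ℕ} {k : ℕ} {S₁ S₂ : Sub} {d₁ d₂ : List ℕ} {N₁ N₂ : ℕ}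
    (ho : orbCheck D A tb S₁.v S₂.v k = true)
    (hv₁ : S₁.v < 2 ^ D.rank ∧ S₁.v ≠ 0) (hv₂ : S₂.v < 2 ^ D.rank ∧ S₂.v ≠ 0)
    (h₁ : ClassOK D A S₁ lv (orbOf D A tb S₁.v S₂.v k S₁.v) d₁ N₁)
    (h₂ : ClassOK D A S₂ lv (orbOf D A tb S₁.v S₂.v k S₂.v) d₂ N₂)
    (hne : Fintype.card F ^ N₁ * (d₁.map fun d => Fintype.card F ^ d - 1).prod ≠
      Fintype.card F ^ N₂ * (d₂.map fun d => Fintype.card F ^ d - 1).prod) :
    ∃ s t : ↥(D.group F), orderOf s = 2 ∧ orderOf t = 2 ∧ ¬ IsConj s t ∧
      (∀ u : ↥(D.group F), orderOf u = 2 → IsConj u s ∨ IsConj u t) ∧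
      Nat.card (Subgroup.centralizer ({s} : Set ↥(D.group F))) =
        Fintype.card F ^ N₁ * (d₁.map fun d => Fintype.card F ^ d - 1).prod ∧
      Nat.card (Subgroup.centralizer ({t} : Set ↥(D.group F))) =
        Fintype.card F ^ N₂ * (d₂.map fun d => Fintype.card F ^ d - 1).prod := by
  classical
  have g := h.good
  simp only [orbCheck, Bool.and_eq_true, List.all_eq_true, List.mem_range, decide_eq_true_eq] at ho
  obtain ⟨⟨htb, hr0⟩, hgoes⟩ := ho
  set el : ℕ → ↥(D.group F) := fun v =>
    ⟨tor D A (sgn F D.rank v), diagonalSubgroup_le_group g (by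
      rw [diagonalSubgroup_eq g]; exact ⟨_, rfl⟩)⟩ with hel
  have hord : ∀ v, v < 2 ^ D.rank → v ≠ 0 → orderOf (el v) = 2 := by
    intro v hv hv0
    have := fact_iff.2 Nat.prime_two
    refine orderOf_eq_prime ?_ fun e => hv0 ?_
    · refine Subtype.ext ?_
      show ((el v) ^ 2 : ↥(D.group F)).1 = 1
      rw [SubmonoidClass.coe_pow, pow_two]
      show tor D A _ * tor D A _ = 1
      rw [← map_mul, ← map_one (tor D A)]
      congr 1
      funext i
      simp only [sgn, Pi.mul_apply, Pi.one_apply]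
      split_ifs <;> simp
    · refine sgn_inj h2 hv (Nat.two_pow_pos _) ?_
      have e' : sgn F D.rank v = (1 : Fin D.rank → Fˣ) := tor_eq_iff g hU (by
        rw [map_one]; exact congrArg Subtype.val e)
      rw [e']
      funext i
      simp [sgn]
  have hcard : ∀ {S : Sub} {d : List ℕ} {N : ℕ},
      (S.v < 2 ^ D.rank ∧ S.v ≠ 0) →
      ClassOK D A S lv (orbOf D A tb S₁.v S₂.v k S.v) d N →
      Nat.card (Subgroup.centralizer ({el S.v} : Set ↥(D.group F))) =
        Fintype.card F ^ N * (d.map fun d => Fintype.card F ^ d - 1).prod := by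
    intro S d N hv hS
    rw [← card_class h hU h2 hw hS (fun v hv => ?_) (List.Nodup.filter _ List.nodup_range)]
    · refine Nat.card_congr
        { toFun := fun y => ⟨y.1.1, y.1.2, congrArg Subtype.val
            (Subgroup.mem_centralizer_singleton_iff.1 y.2)⟩
          invFun := fun y => ⟨⟨y.1, y.2.1⟩,
            Subgroup.mem_centralizer_singleton_iff.2 (Subtype.ext y.2.2)⟩
          left_inv := fun _ => rfl
          right_inv := fun _ => rfl }
    · simp only [orbOf, List.mem_filter, List.mem_range, decide_eq_true_eq] at hv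
      refine ⟨hv.1, ?_⟩
      obtain ⟨w, hw, e⟩ := goes_conj (F := F) g htb hr0 S₁.v S₂.v k v
      exact ⟨w, hw, by rw [e, hv.2]⟩
  refine ⟨el S₁.v, el S₂.v, hord _ hv₁.1 hv₁.2, hord _ hv₂.1 hv₂.2, fun hc => hne ?_, fun u hu => ?_,
    hcard hv₁ h₁, hcard hv₂ h₂⟩
  · rw [← hcard hv₁ h₁, ← hcard hv₂ h₂]
    obtain ⟨z, hz⟩ := isConj_iff.1 hc
    refine Nat.card_congr ((MulAut.conj z).toEquiv.subtypeEquiv fun y => ?_)
    show y ∈ Subgroup.centralizer _ ↔ z * y * z⁻¹ ∈ Subgroup.centralizer _
    rw [Subgroup.mem_centralizer_singleton_iff, Subgroup.mem_centralizer_singleton_iff, ← hz]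
    constructor
    · intro e
      calc z * y * z⁻¹ * (z * el S₁.v * z⁻¹) = z * (y * el S₁.v) * z⁻¹ := by group
        _ = _ := by rw [e]; group
    · intro e
      calc y * el S₁.v = z⁻¹ * (z * y * z⁻¹ * (z * el S₁.v * z⁻¹)) * z := by group
        _ = _ := by rw [e]; group
  · have hu2 : (u : GL D.Idx F) * u = 1 := by
      have := pow_orderOf_eq_one u
      rw [hu, pow_two] at this
      exact congrArg Subtype.val this
    obtain ⟨y, hy, c, hc, e⟩ := exists_toral h hU hP h2 u.2 hu2
    obtain ⟨v, hv, rfl⟩ := exists_sgn c h2 hc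
    obtain ⟨w, hw', hw2⟩ := goes_conj (F := F) g htb hr0 S₁.v S₂.v k v
    set z : ↥(D.group F) :=
      ⟨nW F g w * y⁻¹, mul_mem (monomialSubgroup_le_group g (nW_mem g hw')) (inv_mem hy)⟩
    have hz : IsConj u (el (goes D A tb S₁.v S₂.v k v)) := isConj_iff.2 ⟨z, Subtype.ext (by
      show nW F g w * y⁻¹ * (u : GL D.Idx F) * (nW F g w * y⁻¹)⁻¹ = tor D A _
      rw [← hw2, ← e]; group)⟩
    have hv0 : v ≠ 0 := by
      rintro rfl
      have h1 : sgn F D.rank 0 = (1 : Fin D.rank → Fˣ) := funext fun i => by simp [sgn]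
      rw [h1, map_one] at e
      have : u = 1 := Subtype.ext (by
        calc (u : GL D.Idx F) = y * (y⁻¹ * u * y) * y⁻¹ := by group
          _ = 1 := by rw [e]; group)
      rw [this, orderOf_one] at hu
      norm_num at hu
    rcases hgoes v hv with e1 | e1 | e1
    · exact absurd e1 hv0
    · exact Or.inl (e1 ▸ hz)
    · exact Or.inr (e1 ▸ hz)

lemma two_ne_of_odd [Fintype F] (hF : Odd (Fintype.card F)) : (2 : F) ≠ 0 := fun h => by
  have hc : ringChar F = 2 := CharP.ringChar_of_prime_eq_zero Nat.prime_two (by exact_mod_cast h)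
  have := FiniteField.even_card_of_char_two hc
  rw [Nat.odd_iff] at hF
  omega

lemma pow_mul_ne {q a b : ℕ} (hq : 1 < q) (hab : a < b) {d₁ : List ℕ} (hd : ∀ d ∈ d₁, 0 < d)
    (Y : ℕ) : q ^ a * (d₁.map fun d => q ^ d - 1).prod ≠ q ^ b * Y := by
  intro e
  obtain ⟨c, rfl⟩ : ∃ c, b = a + 1 + c := ⟨b - a - 1, by omega⟩
  rw [pow_add, pow_add, pow_one, mul_assoc, mul_assoc] at e
  have h1 := Nat.eq_of_mul_eq_mul_left (pow_pos (by omega) a) e
  have hcop : Nat.Coprime q (d₁.map fun d => q ^ d - 1).prod := by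
    refine Nat.coprime_list_prod_right_iff.2 fun x hx => ?_
    obtain ⟨d, hd', rfl⟩ := List.mem_map.1 hx
    refine Nat.Coprime.coprime_dvd_left (dvd_pow_self q (hd d hd').ne') ?_
    exact (Nat.coprime_self_sub_right (Nat.one_le_pow _ _ (by omega))).2 (Nat.coprime_one_right _)
  exact absurd (Nat.eq_one_of_dvd_coprimes hcop dvd_rfl ⟨_, h1⟩) (by omega)

end CfsgLib.Chev.OddInvol
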