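import Cfsg.Agent.Lib.Chev.OddInvol.Data
/-! Generated data for the toral involutions of type E8: orbit table, reflection subgroups. -/

set_option autoImplicit false
set_option maxRecDepth 100000

namespace CfsgLib.Chev.OddInvol

/-- table -/
def orbTabE8 : List ℕ := [0, 0, 3, 0, 0, 2, 0, 2, 2, 1, 2, 3, 3, 3, 1, 1, 3, 3, 5, 2, 0, 2, 3, 3, 4, 4, 4, 4, 4, 4, 4, 4, 4, 4, 3, 4, 4, 4, 4, 4, 2, 1, 2, 3, 3, 3, 1, 1, 5, 5, 4, 5, 5, 5, 5, 5, 5, 5, 5, 5, 5, 5, 5, 5, 5, 5, 5, 5, 5, 5, 5, 5, 5, 5, 5, 5, 5, 5, 5, 5, 3, 3, 7, 2, 0, 2, 3, 3, 4, 4, 4, 4, 4, 4, 4, 4, 6, 6, 6, 6, 6, 6, 6, 6, 6, 6, 6, 6, 6, 6, 6, 6, 6, 6, 6, 6, 6, 6, 6, 6, 6, 6, 6, 6, 6, 6, 6, 6,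 6, 6, 6, 6, 6, 6, 6, 6, 6, 6, 6, 6, 6, 6, 6, 6, 6, 6, 5, 6, 6, 6, 6, 6, 6, 6, 6, 6, 6, 6, 6, 6, 4, 4, 3, 4, 4, 4, 4, 4, 2, 1, 2, 3, 3, 3, 1, 1, 5, 5, 4, 5, 5, 5, 5, 5, 5, 5, 5, 5, 5, 5, 5, 5, 7, 7, 7, 7, 7, 7, 7, 7, 7, 7, 7, 7, 7, 7, 7, 7, 7, 7, 6, 7, 7, 7, 7, 7, 7, 7, 7, 7, 7, 7, 7, 7, 7, 7, 7, 7, 7, 7, 7, 7, 7, 7, 7, 7, 7, 7, 7, 7, 7, 7, 7, 7, 7, 7, 7, 7, 7, 7, 7, 7, 7, 7, 7, 7]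

/-- steps -/
def orbLenE8 : ℕ := 28

/-- table -/
def subE8AL0 : List SRep :=
  [⟨[], 0, [0, 1, 1, (-1), 0, 0, 0, 0]⟩,
   ⟨[0], 0, [0, (-1), 1, 0, 0, 0, 0, 0]⟩]

/-- table -/
def subE8AL1 : List SRep :=
  [⟨[], 0, [0, 0, 2, (-1), 0, 0, 0, 0]⟩,
   ⟨[1], 0, [1, 1, 1, (-2), 1, 0, 0, 0]⟩,
   ⟨[0, 1], 1, [1, (-1), 1, (-1), 1, 0, 0, 0]⟩]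

/-- table -/
def subE8AL2 : List SRep :=
  [⟨[], 0, [2, 0, 1, (-1), 0, 0, 0, 0]⟩,
   ⟨[2], 0, [(-2), 0, 3, (-1), 0, 0, 0, 0]⟩,
   ⟨[1, 2], 1, [0, 2, 1, (-3), 2, 0, 0, 0]⟩,
   ⟨[0, 1, 2], 2, [0, (-2), 1, (-1), 2, 0, 0, 0]⟩]

/-- table -/
def subE8AL3 : List SRep :=
  [⟨[], 0, [0, 0, 3, (-3), 2, 0, 0, 0]⟩,
   ⟨[3], 0, [0, 0, 3, (-1), (-2), 2, 0, 0]⟩,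
   ⟨[1, 3], 1, [2, 2, 1, (-3), 0, 2, 0, 0]⟩,
   ⟨[0, 1, 3], 2, [2, (-2), 1, (-1), 0, 2, 0, 0]⟩,
   ⟨[2, 1, 3], 2, [(-2), 2, 3, (-3), 0, 2, 0, 0]⟩,
   ⟨[2, 0, 1, 3], 3, [(-2), (-2), 3, (-1), 0, 2, 0, 0]⟩,
   ⟨[1, 2, 0, 1, 3], 5, [0, 0, 1, (-3), 2, 2, 0, 0]⟩,
   ⟨[3, 1, 2, 0, 1, 3], 6, [0, 0, 1, (-1), (-2), 4, 0, 0]⟩]

/-- table -/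
def subE8AL4 : List SRep :=
  [⟨[], 0, [0, 0, 1, (-1), 0, 1, 0, 0]⟩,
   ⟨[4], 0, [0, 0, 1, (-1), 1, (-1), 1, 0]⟩,
   ⟨[3, 4], 1, [0, 0, 1, 0, (-1), 0, 1, 0]⟩,
   ⟨[1, 3, 4], 2, [1, 1, 0, (-1), 0, 0, 1, 0]⟩,
   ⟨[0, 1, 3, 4], 3, [1, (-1), 0, 0, 0, 0, 1, 0]⟩,
   ⟨[2, 1, 3, 4], 3, [(-1), 1, 1, (-1), 0, 0, 1, 0]⟩,
   ⟨[2, 0, 1, 3, 4], 4, [(-1), (-1), 1, 0, 0, 0, 1, 0]⟩,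
   ⟨[1, 2, 0, 1, 3, 4], 6, [0, 0, 0, (-1), 1, 0, 1, 0]⟩,
   ⟨[3, 1, 2, 0, 1, 3, 4], 7, [0, 0, 0, 0, (-1), 1, 1, 0]⟩,
   ⟨[4, 3, 1, 2, 0, 1, 3, 4], 8, [0, 0, 0, 0, 0, (-1), 2, 0]⟩]

/-- table -/
def subE8AL5 : List SRep :=
  [⟨[], 0, [0, 0, 1, (-1), 0, 0, 2, 0]⟩,
   ⟨[5], 0, [0, 0, 1, (-1), 0, 2, (-2), 2]⟩,
   ⟨[4, 5], 1, [0, 0, 1, (-1), 2, (-2), 0, 2]⟩,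
   ⟨[3, 4, 5], 2, [0, 0, 1, 1, (-2), 0, 0, 2]⟩,
   ⟨[1, 3, 4, 5], 3, [2, 2, (-1), (-1), 0, 0, 0, 2]⟩,
   ⟨[0, 1, 3, 4, 5], 4, [2, (-2), (-1), 1, 0, 0, 0, 2]⟩,
   ⟨[2, 1, 3, 4, 5], 4, [(-2), 2, 1, (-1), 0, 0, 0, 2]⟩,
   ⟨[2, 0, 1, 3, 4, 5], 5, [(-2), (-2), 1, 1, 0, 0, 0, 2]⟩,
   ⟨[1, 2, 0, 1, 3, 4, 5], 7, [0, 0, (-1), (-1), 2, 0, 0, 2]⟩,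
   ⟨[3, 1, 2, 0, 1, 3, 4, 5], 8, [0, 0, (-1), 1, (-2), 2, 0, 2]⟩,
   ⟨[4, 3, 1, 2, 0, 1, 3, 4, 5], 9, [0, 0, (-1), 1, 0, (-2), 2, 2]⟩,
   ⟨[5, 4, 3, 1, 2, 0, 1, 3, 4, 5], 10, [0, 0, (-1), 1, 0, 0, (-2), 4]⟩]

/-- table -/
def subE8AL6 : List SRep :=
  [⟨[], 0, [0, 0, 0, 0, 0, 0, 0, 1]⟩,
   ⟨[6], 0, [0, 0, 0, 0, 0, 0, 1, (-1)]⟩,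
   ⟨[5, 6], 1, [0, 0, 0, 0, 0, 1, (-1), 0]⟩,
   ⟨[4, 5, 6], 2, [0, 0, 0, 0, 1, (-1), 0, 0]⟩,
   ⟨[3, 4, 5, 6], 3, [0, 0, 0, 1, (-1), 0, 0, 0]⟩,
   ⟨[1, 3, 4, 5, 6], 4, [1, 1, (-1), 0, 0, 0, 0, 0]⟩,
   ⟨[0, 1, 3, 4, 5, 6], 5, [1, (-1), (-1), 1, 0, 0, 0, 0]⟩,
   ⟨[2, 1, 3, 4, 5, 6], 5, [(-1), 1, 0, 0, 0, 0, 0, 0]⟩,
   ⟨[2, 0, 1, 3, 4, 5, 6], 6, [(-1), (-1), 0, 1, 0, 0, 0, 0]⟩,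
   ⟨[1, 2, 0, 1, 3, 4, 5, 6], 8, [0, 0, (-1), 0, 1, 0, 0, 0]⟩,
   ⟨[3, 1, 2, 0, 1, 3, 4, 5, 6], 9, [0, 0, (-1), 1, (-1), 1, 0, 0]⟩,
   ⟨[4, 3, 1, 2, 0, 1, 3, 4, 5, 6], 10, [0, 0, (-1), 1, 0, (-1), 1, 0]⟩,
   ⟨[5, 4, 3, 1, 2, 0, 1, 3, 4, 5, 6], 11, [0, 0, (-1), 1, 0, 0, (-1), 1]⟩,
   ⟨[6, 5, 4, 3, 1, 2, 0, 1, 3, 4, 5, 6], 12, [0, 0, (-1), 1, 0, 0, 0, (-1)]⟩]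

/-- table -/
def subE8AL7 : List SRep :=
  [⟨[], 0, [0, 0, (-1), 1, 0, 0, 0, 0]⟩,
   ⟨[7], 0, [0, 0, 1, (-1), 0, 0, 0, 2]⟩,
   ⟨[6, 7], 1, [0, 0, 1, (-1), 0, 0, 2, (-2)]⟩,
   ⟨[5, 6, 7], 2, [0, 0, 1, (-1), 0, 2, (-2), 0]⟩,
   ⟨[4, 5, 6, 7], 3, [0, 0, 1, (-1), 2, (-2), 0, 0]⟩,
   ⟨[3, 4, 5, 6, 7], 4, [0, 0, 1, 1, (-2), 0, 0, 0]⟩,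
   ⟨[1, 3, 4, 5, 6, 7], 5, [2, 2, (-1), (-1), 0, 0, 0, 0]⟩,
   ⟨[0, 1, 3, 4, 5, 6, 7], 6, [2, (-2), (-1), 1, 0, 0, 0, 0]⟩,
   ⟨[2, 1, 3, 4, 5, 6, 7], 6, [(-2), 2, 1, (-1), 0, 0, 0, 0]⟩,
   ⟨[2, 0, 1, 3, 4, 5, 6, 7], 7, [(-2), (-2), 1, 1, 0, 0, 0, 0]⟩,
   ⟨[1, 2, 0, 1, 3, 4, 5, 6, 7], 9, [0, 0, (-1), (-1), 2, 0, 0, 0]⟩,
   ⟨[3, 1, 2, 0, 1, 3, 4, 5, 6, 7], 10, [0, 0, (-1), 1, (-2), 2, 0, 0]⟩,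
   ⟨[4, 3, 1, 2, 0, 1, 3, 4, 5, 6, 7], 11, [0, 0, (-1), 1, 0, (-2), 2, 0]⟩,
   ⟨[5, 4, 3, 1, 2, 0, 1, 3, 4, 5, 6, 7], 12, [0, 0, (-1), 1, 0, 0, (-2), 2]⟩,
   ⟨[6, 5, 4, 3, 1, 2, 0, 1, 3, 4, 5, 6, 7], 13, [0, 0, (-1), 1, 0, 0, 0, (-2)]⟩,
   ⟨[7, 6, 5, 4, 3, 1, 2, 0, 1, 3, 4, 5, 6, 7], 14, [0, 0, 1, (-1), 0, 0, 0, 0]⟩]

/-- table -/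
def subE8A : Sub where
  v := 3
  om := [[1], [2, 3, 2], [0], [4], [5], [6], [7], [3, 1, 4, 3, 2, 0, 5, 4, 3, 1, 2, 3, 4, 5, 6, 5, 4, 3, 2, 1, 3, 4, 5, 0, 2, 3, 4, 1, 3]]
  beta := [141, 136, 162, 126, 123, 121, 120, 214]
  phi := [[0, 1, 1, (-1), 0, 0, 0, 0], [0, 0, 2, (-1), 0, 0, 0, 0], [2, 0, 1, (-1), 0, 0, 0, 0], [0, 0, 3, (-3), 2, 0, 0, 0], [0, 0, 1, (-1), 0, 1, 0, 0], [0, 0, 1, (-1), 0, 0, 2, 0], [0, 0, 0, 0, 0, 0, 0, 1], [0, 0, (-1), 1, 0, 0, 0, 0]]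
  lev := [subE8AL0, subE8AL1, subE8AL2, subE8AL3, subE8AL4, subE8AL5, subE8AL6, subE8AL7]

/-- table -/
def subE8BL0 : List SRep :=
  [⟨[], 0, [2, 0, (-1), 0, 0, 0, 0, 0]⟩,
   ⟨[0], 0, [(-2), 0, 1, 0, 0, 0, 0, 0]⟩]

/-- table -/
def subE8BL1 : List SRep :=
  [⟨[], 0, [0, 0, 0, 0, 0, 0, 0, 1]⟩,
   ⟨[1], 0, [0, 0, 0, 0, 0, 0, 1, (-1)]⟩]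

/-- table -/
def subE8BL2 : List SRep :=
  [⟨[], 0, [0, 0, 0, 0, 0, 0, 1, 0]⟩,
   ⟨[2], 0, [0, 0, 0, 0, 0, 1, (-1), 1]⟩,
   ⟨[1, 2], 1, [0, 0, 0, 0, 0, 1, 0, (-1)]⟩]

/-- table -/
def subE8BL3 : List SRep :=
  [⟨[], 0, [0, 0, 0, 0, 0, 1, 0, 0]⟩,
   ⟨[3], 0, [0, 0, 0, 0, 1, (-1), 1, 0]⟩,
   ⟨[2, 3], 1, [0, 0, 0, 0, 1, 0, (-1), 1]⟩,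
   ⟨[1, 2, 3], 2, [0, 0, 0, 0, 1, 0, 0, (-1)]⟩]

/-- table -/
def subE8BL4 : List SRep :=
  [⟨[], 0, [0, 0, 1, 0, 0, 0, 0, 0]⟩,
   ⟨[4], 0, [0, 0, (-1), 0, 0, 2, 0, 0]⟩,
   ⟨[3, 4], 1, [0, 0, (-1), 0, 2, (-2), 2, 0]⟩,
   ⟨[2, 3, 4], 2, [0, 0, (-1), 0, 2, 0, (-2), 2]⟩,
   ⟨[1, 2, 3, 4], 3, [0, 0, (-1), 0, 2, 0, 0, (-2)]⟩]

/-- table -/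
def subE8BL5 : List SRep :=
  [⟨[], 0, [0, 0, (-1), 0, 2, 0, 0, 0]⟩,
   ⟨[5], 0, [0, 0, (-1), 2, (-2), 2, 0, 0]⟩,
   ⟨[3, 5], 1, [0, 0, (-1), 2, 0, (-2), 2, 0]⟩,
   ⟨[2, 3, 5], 2, [0, 0, (-1), 2, 0, 0, (-2), 2]⟩,
   ⟨[4, 3, 5], 2, [0, 0, (-3), 2, 0, 0, 2, 0]⟩,
   ⟨[1, 2, 3, 5], 3, [0, 0, (-1), 2, 0, 0, 0, (-2)]⟩,
   ⟨[4, 2, 3, 5], 3, [0, 0, (-3), 2, 0, 2, (-2), 2]⟩,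
   ⟨[4, 1, 2, 3, 5], 5, [0, 0, (-3), 2, 0, 2, 0, (-2)]⟩,
   ⟨[3, 4, 2, 3, 5], 6, [0, 0, (-3), 2, 2, (-2), 0, 2]⟩,
   ⟨[3, 4, 1, 2, 3, 5], 7, [0, 0, (-3), 2, 2, (-2), 2, (-2)]⟩,
   ⟨[5, 3, 4, 2, 3, 5], 8, [0, 0, (-3), 4, (-2), 0, 0, 2]⟩,
   ⟨[2, 3, 4, 1, 2, 3, 5], 9, [0, 0, (-3), 2, 2, 0, (-2), 0]⟩,
   ⟨[5, 3, 4, 1, 2, 3, 5], 9, [0, 0, (-3), 4, (-2), 0, 2, (-2)]⟩,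
   ⟨[5, 2, 3, 4, 1, 2, 3, 5], 11, [0, 0, (-3), 4, (-2), 2, (-2), 0]⟩,
   ⟨[3, 5, 2, 3, 4, 1, 2, 3, 5], 13, [0, 0, (-3), 4, 0, (-2), 0, 0]⟩,
   ⟨[4, 3, 5, 2, 3, 4, 1, 2, 3, 5], 14, [0, 0, (-5), 4, 0, 0, 0, 0]⟩]

/-- table -/
def subE8BL6 : List SRep :=
  [⟨[], 0, [0, 0, (-1), 1, 0, 0, 0, 0]⟩,
   ⟨[6], 0, [0, 1, 0, (-1), 1, 0, 0, 0]⟩,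
   ⟨[5, 6], 1, [0, 1, 0, 0, (-1), 1, 0, 0]⟩,
   ⟨[3, 5, 6], 2, [0, 1, 0, 0, 0, (-1), 1, 0]⟩,
   ⟨[2, 3, 5, 6], 3, [0, 1, 0, 0, 0, 0, (-1), 1]⟩,
   ⟨[4, 3, 5, 6], 3, [0, 1, (-1), 0, 0, 0, 1, 0]⟩,
   ⟨[1, 2, 3, 5, 6], 4, [0, 1, 0, 0, 0, 0, 0, (-1)]⟩,
   ⟨[4, 2, 3, 5, 6], 4, [0, 1, (-1), 0, 0, 1, (-1), 1]⟩,
   ⟨[4, 1, 2, 3, 5, 6], 6, [0, 1, (-1), 0, 0, 1, 0, (-1)]⟩,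
   ⟨[3, 4, 2, 3, 5, 6], 7, [0, 1, (-1), 0, 1, (-1), 0, 1]⟩,
   ⟨[3, 4, 1, 2, 3, 5, 6], 8, [0, 1, (-1), 0, 1, (-1), 1, (-1)]⟩,
   ⟨[5, 3, 4, 2, 3, 5, 6], 9, [0, 1, (-1), 1, (-1), 0, 0, 1]⟩,
   ⟨[2, 3, 4, 1, 2, 3, 5, 6], 10, [0, 1, (-1), 0, 1, 0, (-1), 0]⟩,
   ⟨[5, 3, 4, 1, 2, 3, 5, 6], 10, [0, 1, (-1), 1, (-1), 0, 1, (-1)]⟩,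
   ⟨[6, 5, 3, 4, 2, 3, 5, 6], 11, [0, 2, 0, (-1), 0, 0, 0, 1]⟩,
   ⟨[5, 2, 3, 4, 1, 2, 3, 5, 6], 12, [0, 1, (-1), 1, (-1), 1, (-1), 0]⟩,
   ⟨[6, 5, 3, 4, 1, 2, 3, 5, 6], 13, [0, 2, 0, (-1), 0, 0, 1, (-1)]⟩,
   ⟨[3, 5, 2, 3, 4, 1, 2, 3, 5, 6], 15, [0, 1, (-1), 1, 0, (-1), 0, 0]⟩,
   ⟨[6, 5, 2, 3, 4, 1, 2, 3, 5, 6], 15, [0, 2, 0, (-1), 0, 1, (-1), 0]⟩,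
   ⟨[4, 3, 5, 2, 3, 4, 1, 2, 3, 5, 6], 17, [0, 1, (-2), 1, 0, 0, 0, 0]⟩,
   ⟨[6, 3, 5, 2, 3, 4, 1, 2, 3, 5, 6], 17, [0, 2, 0, (-1), 1, (-1), 0, 0]⟩,
   ⟨[6, 4, 3, 5, 2, 3, 4, 1, 2, 3, 5, 6], 19, [0, 2, (-1), (-1), 1, 0, 0, 0]⟩,
   ⟨[5, 6, 3, 5, 2, 3, 4, 1, 2, 3, 5, 6], 20, [0, 2, 0, 0, (-1), 0, 0, 0]⟩,
   ⟨[5, 6, 4, 3, 5, 2, 3, 4, 1, 2, 3, 5, 6], 21, [0, 2, (-1), 0, (-1), 1, 0, 0]⟩,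
   ⟨[3, 5, 6, 4, 3, 5, 2, 3, 4, 1, 2, 3, 5, 6], 23, [0, 2, (-1), 0, 0, (-1), 1, 0]⟩,
   ⟨[2, 3, 5, 6, 4, 3, 5, 2, 3, 4, 1, 2, 3, 5, 6], 24, [0, 2, (-1), 0, 0, 0, (-1), 1]⟩,
   ⟨[1, 2, 3, 5, 6, 4, 3, 5, 2, 3, 4, 1, 2, 3, 5, 6], 25, [0, 2, (-1), 0, 0, 0, 0, (-1)]⟩]

/-- table -/
def subE8BL7 : List SRep :=
  [⟨[], 0, [0, 2, (-1), 0, 0, 0, 0, 0]⟩,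
   ⟨[7], 0, [0, (-2), (-1), 2, 0, 0, 0, 0]⟩,
   ⟨[6, 7], 1, [0, 0, 1, (-2), 2, 0, 0, 0]⟩,
   ⟨[5, 6, 7], 2, [0, 0, 1, 0, (-2), 2, 0, 0]⟩,
   ⟨[3, 5, 6, 7], 3, [0, 0, 1, 0, 0, (-2), 2, 0]⟩,
   ⟨[2, 3, 5, 6, 7], 4, [0, 0, 1, 0, 0, 0, (-2), 2]⟩,
   ⟨[4, 3, 5, 6, 7], 4, [0, 0, (-1), 0, 0, 0, 2, 0]⟩,
   ⟨[1, 2, 3, 5, 6, 7], 5, [0, 0, 1, 0, 0, 0, 0, (-2)]⟩,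
   ⟨[4, 2, 3, 5, 6, 7], 5, [0, 0, (-1), 0, 0, 2, (-2), 2]⟩,
   ⟨[4, 1, 2, 3, 5, 6, 7], 7, [0, 0, (-1), 0, 0, 2, 0, (-2)]⟩,
   ⟨[3, 4, 2, 3, 5, 6, 7], 8, [0, 0, (-1), 0, 2, (-2), 0, 2]⟩,
   ⟨[3, 4, 1, 2, 3, 5, 6, 7], 9, [0, 0, (-1), 0, 2, (-2), 2, (-2)]⟩,
   ⟨[5, 3, 4, 2, 3, 5, 6, 7], 10, [0, 0, (-1), 2, (-2), 0, 0, 2]⟩,
   ⟨[2, 3, 4, 1, 2, 3, 5, 6, 7], 11, [0, 0, (-1), 0, 2, 0, (-2), 0]⟩,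
   ⟨[5, 3, 4, 1, 2, 3, 5, 6, 7], 11, [0, 0, (-1), 2, (-2), 0, 2, (-2)]⟩,
   ⟨[6, 5, 3, 4, 2, 3, 5, 6, 7], 12, [0, 2, 1, (-2), 0, 0, 0, 2]⟩,
   ⟨[5, 2, 3, 4, 1, 2, 3, 5, 6, 7], 13, [0, 0, (-1), 2, (-2), 2, (-2), 0]⟩,
   ⟨[6, 5, 3, 4, 1, 2, 3, 5, 6, 7], 14, [0, 2, 1, (-2), 0, 0, 2, (-2)]⟩,
   ⟨[7, 6, 5, 3, 4, 2, 3, 5, 6, 7], 15, [0, (-2), 1, 0, 0, 0, 0, 2]⟩,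
   ⟨[3, 5, 2, 3, 4, 1, 2, 3, 5, 6, 7], 16, [0, 0, (-1), 2, 0, (-2), 0, 0]⟩,
   ⟨[6, 5, 2, 3, 4, 1, 2, 3, 5, 6, 7], 16, [0, 2, 1, (-2), 0, 2, (-2), 0]⟩,
   ⟨[7, 6, 5, 3, 4, 1, 2, 3, 5, 6, 7], 17, [0, (-2), 1, 0, 0, 0, 2, (-2)]⟩,
   ⟨[4, 3, 5, 2, 3, 4, 1, 2, 3, 5, 6, 7], 19, [0, 0, (-3), 2, 0, 0, 0, 0]⟩,
   ⟨[6, 3, 5, 2, 3, 4, 1, 2, 3, 5, 6, 7], 19, [0, 2, 1, (-2), 2, (-2), 0, 0]⟩,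
   ⟨[7, 6, 5, 2, 3, 4, 1, 2, 3, 5, 6, 7], 20, [0, (-2), 1, 0, 0, 2, (-2), 0]⟩,
   ⟨[6, 4, 3, 5, 2, 3, 4, 1, 2, 3, 5, 6, 7], 22, [0, 2, (-1), (-2), 2, 0, 0, 0]⟩,
   ⟨[5, 6, 3, 5, 2, 3, 4, 1, 2, 3, 5, 6, 7], 23, [0, 2, 1, 0, (-2), 0, 0, 0]⟩,
   ⟨[7, 6, 3, 5, 2, 3, 4, 1, 2, 3, 5, 6, 7], 23, [0, (-2), 1, 0, 2, (-2), 0, 0]⟩,
   ⟨[5, 6, 4, 3, 5, 2, 3, 4, 1, 2, 3, 5, 6, 7], 25, [0, 2, (-1), 0, (-2), 2, 0, 0]⟩,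
   ⟨[7, 6, 4, 3, 5, 2, 3, 4, 1, 2, 3, 5, 6, 7], 25, [0, (-2), (-1), 0, 2, 0, 0, 0]⟩,
   ⟨[7, 5, 6, 3, 5, 2, 3, 4, 1, 2, 3, 5, 6, 7], 26, [0, (-2), 1, 2, (-2), 0, 0, 0]⟩,
   ⟨[3, 5, 6, 4, 3, 5, 2, 3, 4, 1, 2, 3, 5, 6, 7], 28, [0, 2, (-1), 0, 0, (-2), 2, 0]⟩,
   ⟨[7, 5, 6, 4, 3, 5, 2, 3, 4, 1, 2, 3, 5, 6, 7], 28, [0, (-2), (-1), 2, (-2), 2, 0, 0]⟩,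
   ⟨[6, 7, 5, 6, 3, 5, 2, 3, 4, 1, 2, 3, 5, 6, 7], 30, [0, 0, 3, (-2), 0, 0, 0, 0]⟩,
   ⟨[2, 3, 5, 6, 4, 3, 5, 2, 3, 4, 1, 2, 3, 5, 6, 7], 31, [0, 2, (-1), 0, 0, 0, (-2), 2]⟩,
   ⟨[7, 3, 5, 6, 4, 3, 5, 2, 3, 4, 1, 2, 3, 5, 6, 7], 31, [0, (-2), (-1), 2, 0, (-2), 2, 0]⟩,
   ⟨[6, 7, 5, 6, 4, 3, 5, 2, 3, 4, 1, 2, 3, 5, 6, 7], 32, [0, 0, 1, (-2), 0, 2, 0, 0]⟩,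
   ⟨[1, 2, 3, 5, 6, 4, 3, 5, 2, 3, 4, 1, 2, 3, 5, 6, 7], 34, [0, 2, (-1), 0, 0, 0, 0, (-2)]⟩,
   ⟨[7, 2, 3, 5, 6, 4, 3, 5, 2, 3, 4, 1, 2, 3, 5, 6, 7], 34, [0, (-2), (-1), 2, 0, 0, (-2), 2]⟩,
   ⟨[6, 7, 3, 5, 6, 4, 3, 5, 2, 3, 4, 1, 2, 3, 5, 6, 7], 35, [0, 0, 1, (-2), 2, (-2), 2, 0]⟩,
   ⟨[7, 1, 2, 3, 5, 6, 4, 3, 5, 2, 3, 4, 1, 2, 3, 5, 6, 7], 37, [0, (-2), (-1), 2, 0, 0, 0, (-2)]⟩,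
   ⟨[6, 7, 2, 3, 5, 6, 4, 3, 5, 2, 3, 4, 1, 2, 3, 5, 6, 7], 38, [0, 0, 1, (-2), 2, 0, (-2), 2]⟩,
   ⟨[5, 6, 7, 3, 5, 6, 4, 3, 5, 2, 3, 4, 1, 2, 3, 5, 6, 7], 39, [0, 0, 1, 0, (-2), 0, 2, 0]⟩,
   ⟨[6, 7, 1, 2, 3, 5, 6, 4, 3, 5, 2, 3, 4, 1, 2, 3, 5, 6, 7], 40, [0, 0, 1, (-2), 2, 0, 0, (-2)]⟩,
   ⟨[5, 6, 7, 2, 3, 5, 6, 4, 3, 5, 2, 3, 4, 1, 2, 3, 5, 6, 7], 41, [0, 0, 1, 0, (-2), 2, (-2), 2]⟩,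
   ⟨[5, 6, 7, 1, 2, 3, 5, 6, 4, 3, 5, 2, 3, 4, 1, 2, 3, 5, 6, 7], 43, [0, 0, 1, 0, (-2), 2, 0, (-2)]⟩,
   ⟨[3, 5, 6, 7, 2, 3, 5, 6, 4, 3, 5, 2, 3, 4, 1, 2, 3, 5, 6, 7], 44, [0, 0, 1, 0, 0, (-2), 0, 2]⟩,
   ⟨[3, 5, 6, 7, 1, 2, 3, 5, 6, 4, 3, 5, 2, 3, 4, 1, 2, 3, 5, 6, 7], 45, [0, 0, 1, 0, 0, (-2), 2, (-2)]⟩,
   ⟨[4, 3, 5, 6, 7, 2, 3, 5, 6, 4, 3, 5, 2, 3, 4, 1, 2, 3, 5, 6, 7], 46, [0, 0, (-1), 0, 0, 0, 0, 2]⟩,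
   ⟨[2, 3, 5, 6, 7, 1, 2, 3, 5, 6, 4, 3, 5, 2, 3, 4, 1, 2, 3, 5, 6, 7], 47, [0, 0, 1, 0, 0, 0, (-2), 0]⟩,
   ⟨[4, 3, 5, 6, 7, 1, 2, 3, 5, 6, 4, 3, 5, 2, 3, 4, 1, 2, 3, 5, 6, 7], 47, [0, 0, (-1), 0, 0, 0, 2, (-2)]⟩,
   ⟨[4, 2, 3, 5, 6, 7, 1, 2, 3, 5, 6, 4, 3, 5, 2, 3, 4, 1, 2, 3, 5, 6, 7], 49, [0, 0, (-1), 0, 0, 2, (-2), 0]⟩,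
   ⟨[3, 4, 2, 3, 5, 6, 7, 1, 2, 3, 5, 6, 4, 3, 5, 2, 3, 4, 1, 2, 3, 5, 6, 7], 51, [0, 0, (-1), 0, 2, (-2), 0, 0]⟩,
   ⟨[5, 3, 4, 2, 3, 5, 6, 7, 1, 2, 3, 5, 6, 4, 3, 5, 2, 3, 4, 1, 2, 3, 5, 6, 7], 52, [0, 0, (-1), 2, (-2), 0, 0, 0]⟩,
   ⟨[6, 5, 3, 4, 2, 3, 5, 6, 7, 1, 2, 3, 5, 6, 4, 3, 5, 2, 3, 4, 1, 2, 3, 5, 6, 7], 53, [0, 2, 1, (-2), 0, 0, 0, 0]⟩,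
   ⟨[7, 6, 5, 3, 4, 2, 3, 5, 6, 7, 1, 2, 3, 5, 6, 4, 3, 5, 2, 3, 4, 1, 2, 3, 5, 6, 7], 54, [0, (-2), 1, 0, 0, 0, 0, 0]⟩]

/-- table -/
def subE8B : Sub where
  v := 1
  om := [[0], [7], [6], [5], [2, 0, 3, 1, 2, 3, 4, 3, 2, 1, 3, 0, 2], [4], [3], [1]]
  beta := [162, 120, 121, 123, 184, 126, 130, 141]
  phi := [[2, 0, (-1), 0, 0, 0, 0, 0], [0, 0, 0, 0, 0, 0, 0, 1], [0, 0, 0, 0, 0, 0, 1, 0], [0, 0, 0, 0, 0, 1, 0, 0], [0, 0, 1, 0, 0, 0, 0, 0], [0, 0, (-1), 0, 2, 0, 0, 0], [0, 0, (-1), 1, 0, 0, 0, 0], [0, 2, (-1), 0, 0, 0, 0, 0]]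
  lev := [subE8BL0, subE8BL1, subE8BL2, subE8BL3, subE8BL4, subE8BL5, subE8BL6, subE8BL7]

end CfsgLib.Chev.OddInvol
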