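/-
Involutions of `E₈(q)`, `q` odd.
-/
import Cfsg.Agent.Lib.Chev.OddInvol.Main
import Cfsg.Agent.Lib.Chev.OddInvol.DataE8
import Cfsg.Agent.Lib.Chev.Types
import Cfsg.Agent.Lib.Chev.OrderTypes

set_option autoImplicit false
set_option maxRecDepth 100000

namespace CfsgLib.Chev.OddInvol

open Cfsg.Lie CfsgLib.Chev CfsgLib.KnownB.ChevField

theorem pairE8 : pairCheck chevE8 auxE8 = true := by decide +kernel

theorem orbE8 : orbCheck chevE8 auxE8 orbTabE8 subE8A.v subE8B.v orbLenE8 = true := by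
  decide +kernel

theorem classE8A : ClassOK chevE8 auxE8 subE8A weylE8
    (orbOf chevE8 auxE8 orbTabE8 subE8A.v subE8B.v orbLenE8 subE8A.v) [8, 2, 4, 6, 8, 10, 12, 14] 56 :=
  ⟨by decide +kernel, by decide +kernel, by decide +kernel, by decide +kernel, by decide +kernel⟩

theorem classE8B : ClassOK chevE8 auxE8 subE8B weylE8
    (orbOf chevE8 auxE8 orbTabE8 subE8A.v subE8B.v orbLenE8 subE8B.v) [2, 2, 6, 8, 10, 12, 14, 18] 64 :=
  ⟨by decide +kernel, by decide +kernel, by decide +kernel, by decide +kernel, by decide +kernel⟩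

end CfsgLib.Chev.OddInvol
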