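import Cfsg.Agent.Lib.Chev.OddInvol.Data
/-! Generated data for the toral involutions of type F4: orbit table, reflection subgroups. -/

set_option autoImplicit false
set_option maxRecDepth 100000

namespace CfsgLib.Chev.OddInvol

/-- table -/
def orbTabF4 : List ℕ := [0, 0, 0, 1, 0, 3, 1, 0, 2, 1, 2, 2, 3, 2, 3, 3]

/-- steps -/
def orbLenF4 : ℕ := 7

/-- table -/
def subF4AL0 : List SRep :=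
  [⟨[], 0, [0, (-1), 2, 0]⟩,
   ⟨[0], 0, [0, 1, (-2), 2]⟩]

/-- table -/
def subF4AL1 : List SRep :=
  [⟨[], 0, [0, 0, 0, 1]⟩,
   ⟨[1], 0, [0, 0, 1, (-1)]⟩,
   ⟨[0, 1], 1, [0, 1, (-1), 0]⟩]

/-- table -/
def subF4AL2 : List SRep :=
  [⟨[], 0, [0, 1, 0, 0]⟩,
   ⟨[2], 0, [2, (-1), 0, 2]⟩,
   ⟨[1, 2], 1, [2, (-1), 2, (-2)]⟩,
   ⟨[0, 1, 2], 2, [2, 1, (-2), 0]⟩]

/-- table -/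
def subF4AL3 : List SRep :=
  [⟨[], 0, [1, 0, 0, 0]⟩,
   ⟨[3], 0, [(-1), 1, 0, 0]⟩,
   ⟨[2, 3], 1, [1, (-1), 0, 2]⟩,
   ⟨[1, 2, 3], 2, [1, (-1), 2, (-2)]⟩,
   ⟨[3, 2, 3], 2, [(-1), 0, 0, 2]⟩,
   ⟨[0, 1, 2, 3], 3, [1, 1, (-2), 0]⟩,
   ⟨[3, 1, 2, 3], 3, [(-1), 0, 2, (-2)]⟩,
   ⟨[3, 0, 1, 2, 3], 5, [(-1), 2, (-2), 0]⟩,
   ⟨[2, 3, 1, 2, 3], 6, [1, (-2), 2, 0]⟩,
   ⟨[2, 3, 0, 1, 2, 3], 7, [1, 0, (-2), 2]⟩,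
   ⟨[3, 2, 3, 1, 2, 3], 8, [(-1), (-1), 2, 0]⟩,
   ⟨[1, 2, 3, 0, 1, 2, 3], 9, [1, 0, 0, (-2)]⟩,
   ⟨[3, 2, 3, 0, 1, 2, 3], 9, [(-1), 1, (-2), 2]⟩,
   ⟨[3, 1, 2, 3, 0, 1, 2, 3], 11, [(-1), 1, 0, (-2)]⟩,
   ⟨[2, 3, 1, 2, 3, 0, 1, 2, 3], 13, [1, (-1), 0, 0]⟩,
   ⟨[3, 2, 3, 1, 2, 3, 0, 1, 2, 3], 14, [(-1), 0, 0, 0]⟩]

/-- table -/
def subF4A : Sub where
  v := 1
  om := [[2], [3], [1, 2, 1], [0]]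
  beta := [25, 24, 30, 33]
  phi := [[0, (-1), 2, 0], [0, 0, 0, 1], [0, 1, 0, 0], [1, 0, 0, 0]]
  lev := [subF4AL0, subF4AL1, subF4AL2, subF4AL3]

/-- table -/
def subF4BL0 : List SRep :=
  [⟨[], 0, [0, (-1), 2, (-1)]⟩,
   ⟨[0], 0, [0, 1, (-2), 1]⟩]

/-- table -/
def subF4BL1 : List SRep :=
  [⟨[], 0, [0, 0, 0, 1]⟩,
   ⟨[1], 0, [1, 0, 0, (-1)]⟩]

/-- table -/
def subF4BL2 : List SRep :=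
  [⟨[], 0, [1, 0, 0, 0]⟩,
   ⟨[2], 0, [(-1), 1, 0, 0]⟩,
   ⟨[1, 2], 1, [0, 1, 0, (-2)]⟩]

/-- table -/
def subF4BL3 : List SRep :=
  [⟨[], 0, [0, 1, 0, (-1)]⟩,
   ⟨[3], 0, [2, (-1), 0, 1]⟩,
   ⟨[2, 3], 1, [(-2), 1, 0, 1]⟩,
   ⟨[1, 2, 3], 2, [0, 1, 0, (-3)]⟩,
   ⟨[3, 2, 3], 2, [0, (-1), 0, 3]⟩,
   ⟨[3, 1, 2, 3], 3, [2, (-1), 0, (-1)]⟩,
   ⟨[2, 3, 1, 2, 3], 5, [(-2), 1, 0, (-1)]⟩,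
   ⟨[3, 2, 3, 1, 2, 3], 6, [0, (-1), 0, 1]⟩]

/-- table -/
def subF4B : Sub where
  v := 4
  om := [[2], [3, 2, 1, 2, 3], [0], [1, 2, 1]]
  beta := [25, 29, 33, 30]
  phi := [[0, (-1), 2, (-1)], [0, 0, 0, 1], [1, 0, 0, 0], [0, 1, 0, (-1)]]
  lev := [subF4BL0, subF4BL1, subF4BL2, subF4BL3]

end CfsgLib.Chev.OddInvol
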