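/-
Involutions of `F₄(q)`, `q` odd.
-/
import Cfsg.Agent.Lib.Chev.OddInvol.Main
import Cfsg.Agent.Lib.Chev.OddInvol.DataF4
import Cfsg.Agent.Lib.Chev.Types
import Cfsg.Agent.Lib.Chev.OrderTypes

set_option autoImplicit false
set_option maxRecDepth 100000

namespace CfsgLib.Chev.OddInvol

open Cfsg.Lie CfsgLib.Chev CfsgLib.KnownB.ChevField

theorem pairF4 : pairCheck chevF4 auxF4 = true := by decide +kernel

theorem orbF4 : orbCheck chevF4 auxF4 orbTabF4 subF4A.v subF4B.v orbLenF4 = true := by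
  decide +kernel

theorem classF4A : ClassOK chevF4 auxF4 subF4A weylF4
    (orbOf chevF4 auxF4 orbTabF4 subF4A.v subF4B.v orbLenF4 subF4A.v) [2, 4, 6, 8] 16 :=
  ⟨by decide +kernel, by decide +kernel, by decide +kernel, by decide +kernel, by decide +kernel⟩

theorem classF4B : ClassOK chevF4 auxF4 subF4B weylF4
    (orbOf chevF4 auxF4 orbTabF4 subF4A.v subF4B.v orbLenF4 subF4B.v) [2, 2, 4, 6] 10 :=
  ⟨by decide +kernel, by decide +kernel, by decide +kernel, by decide +kernel, by decide +kernel⟩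

end CfsgLib.Chev.OddInvol
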